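import Cfsg.Agent.Lib.Linear.BrauerFeit.Count

/-!
# The class equation: an abelian subgroup of bounded index
-/

set_option autoImplicit false

namespace Cfsg.Lib.Linear.BrauerFeit

open Subgroup
open scoped Classical

variable {G : Type*} [Group G] [Finite G] {Z : Subgroup G} {E d K : ℕ}

/-- The bound of the counting argument. -/
def countBound (K : ℕ) : ℕ := K * K * K + egyBound (2 * (K * K * K)) (K * K * K).factorial

omit [Finite G] in
theorem map_map_conj (g k : G) (T : Subgroup G) :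
    (T.map (MulAut.conj k).toMonoidHom).map (MulAut.conj g).toMonoidHom =
      T.map (MulAut.conj (g * k)).toMonoidHom := by
  rw [Subgroup.map_map]
  congr 1
  ext x
  simp [mul_assoc]

omit [Finite G] in
theorem map_conj_one (T : Subgroup G) : T.map (MulAut.conj (1 : G)).toMonoidHom = T := by
  ext x; simp

omit [Finite G] in
theorem mem_map_conj {g x : G} {T : Subgroup G} :
    x ∈ T.map (MulAut.conj g).toMonoidHom ↔ g⁻¹ * x * g ∈ T := by
  constructor
  · rintro ⟨y, hy, rfl⟩; simpa [mul_assoc] using hy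
  · intro hx; exact ⟨_, hx, by simp [mul_assoc]⟩

namespace Ctx

variable (h : Ctx Z E d K)
include h

omit [Finite G] in
theorem conj_notMem (g : G) {x : G} (hx : x ∉ Z) : g * x * g⁻¹ ∉ Z := by
  intro hm
  have he : x = g * x * g⁻¹ := by
    have h2 := (h.central _ hm g⁻¹).eq
    calc x = g⁻¹ * (g * x * g⁻¹) * g := by group
      _ = g * x * g⁻¹ * g⁻¹ * g := by rw [h2]
      _ = _ := by group
  exact hx (he ▸ hm)

omit [Finite G] in
theorem lg_map {M : Subgroup G} (hM : Lg Z E M) (g : G) : Lg Z E (M.map (MulAut.conj g).toMonoidHom) := by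
  refine ⟨?_, ?_⟩
  · rintro _ ⟨a, ha, rfl⟩ _ ⟨b, hb, rfl⟩
    exact (hM.1 a ha b hb).map (MulAut.conj g).toMonoidHom
  · obtain ⟨a, ha, ha'⟩ := hM.2
    refine ⟨_, ⟨a, ha, rfl⟩, ?_⟩
    rw [← map_pow]
    exact h.conj_notMem g ha'

omit [Finite G] in
theorem tor_map_le (M : Subgroup G) (g : G) :
    (tor Z E M).map (MulAut.conj g).toMonoidHom ≤ tor Z E (M.map (MulAut.conj g).toMonoidHom) := by
  rw [tor, MonoidHom.map_closure, closure_le]
  rintro _ ⟨x, hx | ⟨M', hM', hr, u, hu, rfl⟩, rfl⟩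
  · refine le_tor _ ?_
    show g * x * g⁻¹ ∈ Z
    rw [← (h.central x hx g).eq, mul_inv_cancel_right]
    exact hx
  · rw [map_pow]
    refine pow_mem_tor (h.lg_map hM' g) ?_ ⟨u, hu, rfl⟩
    rintro _ ⟨a, ha, rfl⟩ _ ⟨b, hb, rfl⟩
    rw [← map_pow, ← map_pow]
    exact (hr a ha b hb).map (MulAut.conj g).toMonoidHom

omit [Finite G] in
theorem tor_map (M : Subgroup G) (g : G) :
    (tor Z E M).map (MulAut.conj g).toMonoidHom = tor Z E (M.map (MulAut.conj g).toMonoidHom) := by
  refine le_antisymm (h.tor_map_le M g) ?_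
  have h1 := Subgroup.map_mono (f := (MulAut.conj g).toMonoidHom)
    (h.tor_map_le (M.map (MulAut.conj g).toMonoidHom) g⁻¹)
  rwa [map_map_conj, map_map_conj, inv_mul_cancel, mul_inv_cancel, map_conj_one, map_conj_one] at h1

omit [Finite G] in
theorem supp_map (T : Subgroup G) (g : G) :
    supp Z E (T.map (MulAut.conj g).toMonoidHom) = (MulAut.conj g) '' supp Z E T := by
  have hfwd : ∀ (g : G) (T : Subgroup G), (MulAut.conj g) '' supp Z E T ⊆
      supp Z E (T.map (MulAut.conj g).toMonoidHom) := by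
    rintro g T _ ⟨x, hx | ⟨a, ha, hax, ha5⟩, rfl⟩
    · exact Or.inl ⟨x, hx, rfl⟩
    · refine Or.inr ⟨_, ⟨a, ha, rfl⟩, hax.map (MulAut.conj g).toMonoidHom, ?_⟩
      rw [← map_pow]
      exact h.conj_notMem g ha5
  refine Set.Subset.antisymm (fun x hx => ?_) (hfwd g T)
  have h1 := hfwd g⁻¹ _ ⟨x, hx, rfl⟩
  rw [map_map_conj, inv_mul_cancel, map_conj_one] at h1
  exact ⟨_, h1, by simp [mul_assoc]⟩

theorem card_supp {M : Subgroup G} (hM : Lg Z E M) :
    Nat.card (tor Z E M) ∣ Nat.card (supp Z E (tor Z E M)) := by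
  set T := tor Z E M
  have hinv : ∀ x ∈ supp Z E T, ∀ t ∈ T, x * t ∈ supp Z E T := by
    rintro x (hx | ⟨a, ha, hax, ha5⟩) t ht
    · exact Or.inl (T.mul_mem hx ht)
    · exact Or.inr ⟨a, ha, hax.mul_right (h.ab_tor hM a ha t ht), ha5⟩
  have he : supp Z E T = QuotientGroup.mk ⁻¹' (QuotientGroup.mk '' supp Z E T : Set (G ⧸ T)) := by
    refine Set.Subset.antisymm (Set.subset_preimage_image _ _) ?_
    rintro y ⟨x, hx, hxy⟩
    have := hinv x hx _ (QuotientGroup.eq.1 hxy)
    rwa [mul_inv_cancel_left] at this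
  refine ⟨Nat.card (QuotientGroup.mk '' supp Z E T : Set (G ⧸ T)), ?_⟩
  rw [← Nat.card_prod]
  conv_lhs => rw [he]
  exact Nat.card_congr (QuotientGroup.preimageMkEquivSubgroupProdSet T _)

/-- The counting argument. -/
theorem exists_abelian : ∃ A : Subgroup G, Ab A ∧ A.index ≤ countBound K := by
  haveI := Fintype.ofFinite G
  haveI : Fintype (Subgroup G) := Fintype.ofFinite _
  by_cases htriv : ∃ M, Lg Z E M ∧ normalizer (tor Z E M : Set G) = ⊤
  · obtain ⟨M, hM, hN⟩ := htriv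
    refine ⟨_, h.ab_tor hM, ?_⟩
    have h1 := h.relIndex_normalizer hM
    rw [hN, relIndex_top_right] at h1
    exact h1.trans (Nat.le_add_right _ _)
  push Not at htriv
  refine ⟨Z, fun a ha b _ => h.central a ha b, le_trans ?_ (Nat.le_add_left _ _)⟩
  set z := Nat.card Z with hz
  set g := Z.index with hgdef
  set Dn := (K * K * K).factorial with hDn
  have hGz : z * g = Nat.card G := card_mul_index Z
  have hDpos : 0 < Dn := Nat.factorial_pos _
  let 𝒯 : Finset (Subgroup G) := Finset.univ.filter fun T => ∃ M, Lg Z E M ∧ tor Z E M = T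
  have hmem : ∀ {T}, T ∈ 𝒯 ↔ ∃ M, Lg Z E M ∧ tor Z E M = T := by simp [𝒯]
  let S : Subgroup G → Finset G := fun T => (supp Z E T).toFinset
  let Zf : Finset G := (Z : Set G).toFinset
  have hZf : Zf.card = z := by
    rw [Set.toFinset_card, hz, Nat.card_eq_fintype_card]
    exact Fintype.card_congr (Equiv.refl _)
  have hScard : ∀ T, (S T).card = Nat.card (supp Z E T) := fun T => by
    rw [Set.toFinset_card, Nat.card_eq_fintype_card]
  have hZS : ∀ T ∈ 𝒯, Zf ⊆ S T := fun T hT => by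
    obtain ⟨M, -, rfl⟩ := hmem.1 hT
    intro x hx
    exact Set.mem_toFinset.2 (Or.inl (le_tor M (Set.mem_toFinset.1 hx)))
  let U := 𝒯.biUnion fun T => S T \ Zf
  have hUcard : U.card = ∑ T ∈ 𝒯, ((S T).card - z) := by
    rw [Finset.card_biUnion]
    · exact Finset.sum_congr rfl fun T hT => by rw [Finset.card_sdiff_of_subset (hZS T hT), hZf]
    · intro T hT T' hT' hne
      rw [Function.onFun, Finset.disjoint_left]
      intro x hx hx'
      obtain ⟨M, hM, rfl⟩ := hmem.1 hT
      obtain ⟨M', hM', rfl⟩ := hmem.1 hT'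
      rw [Finset.mem_sdiff, Set.mem_toFinset] at hx hx'
      exact hne (h.disjoint hM hM' (fun hm => hx.2 (Set.mem_toFinset.2 hm)) hx.1 hx'.1)
  have hZU : Disjoint Zf U := by
    rw [Finset.disjoint_left]
    intro x hx hxU
    obtain ⟨T, -, hT⟩ := Finset.mem_biUnion.1 hxU
    exact (Finset.mem_sdiff.1 hT).2 hx
  let R := Finset.univ \ (Zf ∪ U)
  have htotal : Nat.card G = z + U.card + R.card := by
    rw [Nat.card_eq_fintype_card, ← Finset.card_univ, ← hZf, ← Finset.card_union_of_disjoint hZU,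
      Finset.card_sdiff_of_subset (Finset.subset_univ _)]
    have := Finset.card_le_univ (Zf ∪ U)
    rw [Finset.card_univ]
    omega
  -- orbits of tori
  let cls : Subgroup G → Finset (Subgroup G) := fun T =>
    Finset.univ.image fun k : G => T.map (MulAut.conj k).toMonoidHom
  let O : Finset (Finset (Subgroup G)) := 𝒯.image cls
  have hfib : ∀ o ∈ O, ∃ M, Lg Z E M ∧ (𝒯.filter fun T => cls T = o) = cls (tor Z E M) := by
    intro o ho
    obtain ⟨T, hT, rfl⟩ := Finset.mem_image.1 ho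
    obtain ⟨M, hM, rfl⟩ := hmem.1 hT
    refine ⟨M, hM, Finset.ext fun T' => ?_⟩
    rw [Finset.mem_filter]
    constructor
    · rintro ⟨-, he⟩
      rw [← he]
      exact Finset.mem_image.2 ⟨1, Finset.mem_univ _, map_conj_one T'⟩
    · intro hT'
      obtain ⟨k, -, rfl⟩ := Finset.mem_image.1 hT'
      refine ⟨hmem.2 ⟨_, h.lg_map hM k, (h.tor_map M k).symm⟩, Finset.ext fun Q => ?_⟩
      constructor
      · intro hQ
        obtain ⟨j, -, rfl⟩ := Finset.mem_image.1 hQ
        exact Finset.mem_image.2 ⟨j * k, Finset.mem_univ _, (map_map_conj j k _).symm⟩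
      · intro hQ
        obtain ⟨j, -, rfl⟩ := Finset.mem_image.1 hQ
        exact Finset.mem_image.2 ⟨j * k⁻¹, Finset.mem_univ _, by
          rw [map_map_conj, inv_mul_cancel_right]⟩
  have hclscard : ∀ T, (cls T).card = (normalizer (T : Set G)).index := by
    intro T
    rw [show (normalizer (T : Set G)).index = Nat.card (G ⧸ normalizer (T : Set G)) from rfl,
      ← Fintype.card_coe, ← Nat.card_eq_fintype_card]
    have hiff : ∀ a b : G, T.map (MulAut.conj a).toMonoidHom = T.map (MulAut.conj b).toMonoidHom ↔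
        a⁻¹ * b ∈ normalizer (T : Set G) := by
      intro a b
      rw [mem_normalizer_iff]
      constructor
      · intro he x
        have := SetLike.ext_iff.1 he (b * x * b⁻¹)
        rw [mem_map_conj, mem_map_conj] at this
        simpa [mul_assoc] using this.symm
      · intro hab
        ext x
        rw [mem_map_conj, mem_map_conj]
        have := hab (b⁻¹ * x * b)
        simp only [mul_assoc, mul_inv_rev, inv_inv, mul_inv_cancel_left, mul_inv_cancel, mul_one] at this ⊢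
        exact this.symm
    refine (Nat.card_eq_of_bijective (fun q : G ⧸ normalizer (T : Set G) =>
      (⟨T.map (MulAut.conj q.out).toMonoidHom,
        Finset.mem_image.2 ⟨_, Finset.mem_univ _, rfl⟩⟩ : {x // x ∈ cls T})) ⟨?_, ?_⟩).symm
    · intro q q' he
      rw [← QuotientGroup.out_eq' q, ← QuotientGroup.out_eq' q', QuotientGroup.eq]
      exact (hiff _ _).1 (congrArg Subtype.val he)
    · rintro ⟨Q, hQ⟩
      obtain ⟨k, -, rfl⟩ := Finset.mem_image.1 hQ
      refine ⟨(k : G ⧸ normalizer (T : Set G)), Subtype.ext ((hiff _ _).2 ?_)⟩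
      exact QuotientGroup.eq.1 (QuotientGroup.out_eq' _)
  have hSinv : ∀ {M}, ∀ T ∈ cls (tor Z E M), (S T).card = (S (tor Z E M)).card := by
    intro M T hT
    obtain ⟨k, -, rfl⟩ := Finset.mem_image.1 hT
    rw [hScard, hScard, h.supp_map]
    exact Nat.card_image_of_injective (MulAut.conj k).injective _
  -- the divisibility and size facts, orbit by orbit
  have horb : ∀ o ∈ O,
      Nat.card G ∣ Dn * (∑ T ∈ 𝒯.filter (fun T => cls T = o), (S T).card) ∧
      Nat.card G ≤ 2 * (K * K * K) * (∑ T ∈ 𝒯.filter (fun T => cls T = o), ((S T).card - z)) ∧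
      ∃ n, 0 < n ∧ n < g ∧ n * (𝒯.filter fun T => cls T = o).card = g := by
    intro o ho
    obtain ⟨M, hM, he⟩ := hfib o ho
    rw [he]
    set T := tor Z E M
    set N := normalizer (T : Set G)
    have hZT : Z ≤ T := le_tor M
    have hTN : T ≤ N := le_normalizer
    obtain ⟨k, hk⟩ := h.card_supp hM
    have hTq : Nat.card T * T.relIndex N = Nat.card N := by
      rw [relIndex, ← Nat.card_congr (subgroupOfEquivOfLe hTN).toEquiv, card_mul_index]
    have hNG : Nat.card N * N.index = Nat.card G := card_mul_index N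
    have hq := h.relIndex_normalizer hM
    obtain ⟨c, hc⟩ : T.relIndex N ∣ Dn :=
      Nat.dvd_factorial (Nat.pos_of_ne_zero (rel_ne_zero _ _)) hq
    have hTS : Nat.card T ≤ (S T).card := by
      rw [hScard]
      exact Nat.card_mono (Set.toFinite _) (subset_supp T)
    have h2z : 2 * z ≤ Nat.card T := by
      obtain ⟨a, ha, haZ⟩ := h.exists_tor_not_mem hM
      have h1 : Nat.card Z * Z.relIndex T = Nat.card T := by
        rw [relIndex, ← Nat.card_congr (subgroupOfEquivOfLe hZT).toEquiv, card_mul_index]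
      have h2 : 2 ≤ Z.relIndex T := by
        rcases Nat.lt_or_ge (Z.relIndex T) 2 with h3 | h3
        · interval_cases hr : Z.relIndex T
          · exact absurd hr (rel_ne_zero _ _)
          · exact absurd (relIndex_eq_one.1 hr ha) haZ
        · exact h3
      rw [← h1, hz, mul_comm 2]
      exact Nat.mul_le_mul_left _ h2
    refine ⟨?_, ?_, Z.relIndex N, Nat.pos_of_ne_zero (rel_ne_zero _ _), ?_, ?_⟩
    · rw [Finset.sum_congr rfl hSinv, Finset.sum_const, smul_eq_mul, hclscard, hScard, hk, ← hNG,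
        ← hTq, hc]
      exact ⟨c * k, by ring⟩
    · rw [Finset.sum_congr rfl (fun T' hT' => show (S T').card - z = (S T).card - z by rw [hSinv T' hT']),
        Finset.sum_const, smul_eq_mul, hclscard, ← hNG, ← hTq]
      have h1 : Nat.card T ≤ 2 * ((S T).card - z) := by omega
      calc Nat.card T * T.relIndex N * N.index ≤ 2 * ((S T).card - z) * (K * K * K) * N.index :=
            Nat.mul_le_mul_right _ (Nat.mul_le_mul h1 hq)
        _ = _ := by ring
    · have h1 : Z.relIndex N * N.index = g := relIndex_mul_index (hZT.trans hTN)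
      have h2 : 1 < N.index :=
        lt_of_le_of_ne (Nat.one_le_iff_ne_zero.2 index_ne_zero_of_finite)
          (fun e => htriv M hM (index_eq_one.1 e.symm))
      rw [← h1]
      exact lt_mul_of_one_lt_right (Nat.pos_of_ne_zero (rel_ne_zero _ _)) h2
    · rw [hclscard]; exact relIndex_mul_index (hZT.trans hTN)
  have hmaps : ∀ T ∈ 𝒯, cls T ∈ O := fun T hT => Finset.mem_image_of_mem _ hT
  -- the leftover
  let cl : G → Finset G := fun x => Finset.univ.image fun kz : G × Z => kz.1 * x * kz.1⁻¹ * (kz.2 : G)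
  have hUmem : ∀ x, x ∈ Zf ∪ U ↔ x ∈ Z ∨ ∃ M, Lg Z E M ∧ x ∈ supp Z E (tor Z E M) := by
    intro x
    rw [Finset.mem_union, Set.mem_toFinset, Finset.mem_biUnion]
    constructor
    · rintro (hx | ⟨T, hT, hx⟩)
      · exact Or.inl hx
      · obtain ⟨M, hM, rfl⟩ := hmem.1 hT
        exact Or.inr ⟨M, hM, Set.mem_toFinset.1 (Finset.mem_sdiff.1 hx).1⟩
    · rintro (hx | ⟨M, hM, hx⟩)
      · exact Or.inl hx
      · by_cases hxZ : x ∈ Z
        · exact Or.inl hxZ
        · exact Or.inr ⟨_, hmem.2 ⟨M, hM, rfl⟩, Finset.mem_sdiff.2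
            ⟨Set.mem_toFinset.2 hx, fun hm => hxZ (Set.mem_toFinset.1 hm)⟩⟩
  have hRinv : ∀ x ∈ R, ∀ y ∈ cl x, y ∈ R := by
    intro x hx y hy
    obtain ⟨⟨k, w⟩, -, rfl⟩ := Finset.mem_image.1 hy
    refine Finset.mem_sdiff.2 ⟨Finset.mem_univ _, fun hm => (Finset.mem_sdiff.1 hx).2 ((hUmem x).2 ?_)⟩
    rcases (hUmem _).1 hm with hm | ⟨M, hM, hm⟩
    · left
      by_contra hxZ
      refine h.conj_notMem k hxZ ?_
      have := Z.mul_mem hm (Z.inv_mem w.2)
      simpa using this
    · right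
      refine ⟨_, h.lg_map hM k⁻¹, ?_⟩
      have hwT : (w : G) ∈ tor Z E M := le_tor M w.2
      have h1 : k * x * k⁻¹ ∈ supp Z E (tor Z E M) := by
        have hxe : k * x * k⁻¹ * (w : G) * (w : G)⁻¹ = k * x * k⁻¹ := mul_inv_cancel_right _ _
        rcases hm with hm | ⟨a, ha, hax, ha5⟩
        · exact Or.inl (hxe ▸ (tor Z E M).mul_mem hm ((tor Z E M).inv_mem hwT))
        · exact Or.inr ⟨a, ha, hxe ▸ hax.mul_right (h.ab_tor hM a ha _ ((tor Z E M).inv_mem hwT)), ha5⟩
      rw [← h.tor_map, h.supp_map]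
      exact ⟨_, h1, by simp [mul_assoc]⟩
  have hRdvd : Nat.card G ∣ Dn * R.card := by
    rw [Finset.card_eq_sum_card_fiberwise (f := cl) (t := R.image cl)
      (fun x hx => Finset.mem_image_of_mem _ hx), Finset.mul_sum]
    refine Finset.dvd_sum fun o ho => ?_
    obtain ⟨x, hx, rfl⟩ := Finset.mem_image.1 ho
    have hself : ∀ y, y ∈ cl y := fun y => Finset.mem_image.2 ⟨(1, 1), Finset.mem_univ _, by simp⟩
    have hfilter : (R.filter fun y => cl y = cl x) = cl x := by
      refine Finset.ext fun y => ⟨fun hy => (Finset.mem_filter.1 hy).2 ▸ hself y, fun hy => ?_⟩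
      refine Finset.mem_filter.2 ⟨hRinv x hx y hy, ?_⟩
      obtain ⟨⟨k, w⟩, -, rfl⟩ := Finset.mem_image.1 hy
      refine Finset.ext fun u => ⟨fun hu => ?_, fun hu => ?_⟩
      · obtain ⟨⟨j, v⟩, -, rfl⟩ := Finset.mem_image.1 hu
        refine Finset.mem_image.2 ⟨(j * k, w * v), Finset.mem_univ _, ?_⟩
        have hc := (h.central w w.2 j⁻¹).eq
        simp only [Subgroup.coe_mul, mul_inv_rev]
        calc j * k * x * (k⁻¹ * j⁻¹) * ((w : G) * v) = j * (k * x * k⁻¹) * (j⁻¹ * (w : G)) * v := by group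
          _ = _ := by rw [← hc]; group
      · obtain ⟨⟨j, v⟩, -, rfl⟩ := Finset.mem_image.1 hu
        refine Finset.mem_image.2 ⟨(j * k⁻¹, w⁻¹ * v), Finset.mem_univ _, ?_⟩
        have hc := (h.central w w.2 (j * k⁻¹)⁻¹).eq
        simp only [Subgroup.coe_mul, Subgroup.coe_inv]
        calc j * k⁻¹ * (k * x * k⁻¹ * (w : G)) * (j * k⁻¹)⁻¹ * ((w : G)⁻¹ * v)
            = j * x * k⁻¹ * ((w : G) * (j * k⁻¹)⁻¹) * (w : G)⁻¹ * v := by group
          _ = _ := by rw [hc]; group
    rw [hfilter]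
    have hxU := (Finset.mem_sdiff.1 hx).2
    have hxZ : x ∉ Z := fun hm => hxU ((hUmem x).2 (Or.inl hm))
    have hxS : ∀ M, Lg Z E M → x ∉ supp Z E (tor Z E M) := fun M hM hm =>
      hxU ((hUmem x).2 (Or.inr ⟨M, hM, hm⟩))
    let Dx : Subgroup G :=
      { carrier := {k | k * x * k⁻¹ * x⁻¹ ∈ Z}
        one_mem' := by simp [Z.one_mem]
        mul_mem' := fun {a b} ha hb => by
          simp only [Set.mem_setOf_eq] at ha hb ⊢
          have hc := (h.central _ hb a).eq
          have : a * b * x * (a * b)⁻¹ * x⁻¹ = (b * x * b⁻¹ * x⁻¹) * (a * x * a⁻¹ * x⁻¹) := by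
            calc a * b * x * (a * b)⁻¹ * x⁻¹ = a * (b * x * b⁻¹ * x⁻¹) * (x * a⁻¹ * x⁻¹) := by group
              _ = (b * x * b⁻¹ * x⁻¹) * a * (x * a⁻¹ * x⁻¹) := by rw [hc]
              _ = _ := by group
          rw [this]
          exact Z.mul_mem hb ha
        inv_mem' := fun {a} ha => by
          simp only [Set.mem_setOf_eq] at ha ⊢
          have hc := (h.central _ (Z.inv_mem ha) a⁻¹).eq
          have : a⁻¹ * x * a⁻¹⁻¹ * x⁻¹ = (a * x * a⁻¹ * x⁻¹)⁻¹ := by
            calc a⁻¹ * x * a⁻¹⁻¹ * x⁻¹ = a⁻¹ * (a * x * a⁻¹ * x⁻¹)⁻¹ * a := by group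
              _ = (a * x * a⁻¹ * x⁻¹)⁻¹ * a⁻¹ * a := by rw [hc]
              _ = _ := by group
          rw [this]
          exact Z.inv_mem ha }
    have hc := h.small hxZ hxS Dx (fun k => Iff.rfl)
    obtain ⟨c, hc'⟩ : Z.relIndex Dx ∣ Dn :=
      Nat.dvd_factorial (Nat.pos_of_ne_zero (rel_ne_zero _ _)) hc
    have hZD : Z ≤ Dx := fun w hw => by
      show w * x * w⁻¹ * x⁻¹ ∈ Z
      rw [(h.central w hw x).eq, mul_inv_cancel_right, mul_inv_cancel]
      exact Z.one_mem
    have hcard : (cl x).card = Dx.index * z := by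
      rw [show Dx.index = Nat.card (G ⧸ Dx) from rfl, hz, ← Nat.card_prod, ← Fintype.card_coe,
        ← Nat.card_eq_fintype_card]
      refine (Nat.card_eq_of_bijective (fun qw : (G ⧸ Dx) × Z =>
        (⟨qw.1.out * x * qw.1.out⁻¹ * (qw.2 : G),
          Finset.mem_image.2 ⟨(qw.1.out, qw.2), Finset.mem_univ _, rfl⟩⟩ : {y // y ∈ cl x})) ⟨?_, ?_⟩).symm
      · rintro ⟨q, w⟩ ⟨q', w'⟩ he
        have he' : q.out * x * q.out⁻¹ * (w : G) = q'.out * x * q'.out⁻¹ * (w' : G) :=
          congrArg Subtype.val he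
        have hq : q = q' := by
          rw [← QuotientGroup.out_eq' q, ← QuotientGroup.out_eq' q', QuotientGroup.eq]
          show q.out⁻¹ * q'.out * x * (q.out⁻¹ * q'.out)⁻¹ * x⁻¹ ∈ Z
          have hwz : (w : G) * (w' : G)⁻¹ ∈ Z := Z.mul_mem w.2 (Z.inv_mem w'.2)
          have hc1 := (h.central _ hwz q.out).eq
          have hc2 := (h.central _ hwz x⁻¹).eq
          have : q.out⁻¹ * q'.out * x * (q.out⁻¹ * q'.out)⁻¹ * x⁻¹ = (w : G) * (w' : G)⁻¹ := by
            calc q.out⁻¹ * q'.out * x * (q.out⁻¹ * q'.out)⁻¹ * x⁻¹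
                = q.out⁻¹ * (q'.out * x * q'.out⁻¹ * (w' : G)) * ((w' : G)⁻¹ * q.out) * x⁻¹ := by group
              _ = x * q.out⁻¹ * ((w : G) * (w' : G)⁻¹ * q.out) * x⁻¹ := by rw [← he']; group
              _ = x * (((w : G) * (w' : G)⁻¹) * x⁻¹) := by rw [hc1]; group
              _ = _ := by rw [hc2]; group
          rw [this]
          exact hwz
        subst hq
        exact Prod.ext rfl (Subtype.ext (mul_left_cancel he'))
      · rintro ⟨y, hy⟩
        obtain ⟨⟨k, w⟩, -, rfl⟩ := Finset.mem_image.1 hy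
        set q : G ⧸ Dx := (k : G ⧸ Dx)
        have hd : q.out⁻¹ * k ∈ Dx := QuotientGroup.eq.1 (QuotientGroup.out_eq' q)
        refine ⟨(q, ⟨q.out⁻¹ * k * x * (q.out⁻¹ * k)⁻¹ * x⁻¹ * (w : G), Z.mul_mem hd w.2⟩), Subtype.ext ?_⟩
        have hc1 := (h.central _ hd (q.out * x * q.out⁻¹)).eq
        show q.out * x * q.out⁻¹ * (q.out⁻¹ * k * x * (q.out⁻¹ * k)⁻¹ * x⁻¹ * (w : G)) = k * x * k⁻¹ * w
        have hc2 := (h.central _ hd q.out).eq
        calc q.out * x * q.out⁻¹ * (q.out⁻¹ * k * x * (q.out⁻¹ * k)⁻¹ * x⁻¹ * (w : G))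
            = (q.out * x * q.out⁻¹ * (q.out⁻¹ * k * x * (q.out⁻¹ * k)⁻¹ * x⁻¹)) * (w : G) := by group
          _ = (q.out⁻¹ * k * x * (q.out⁻¹ * k)⁻¹ * x⁻¹ * q.out * (x * q.out⁻¹)) * (w : G) := by
            rw [← hc1]; group
          _ = (q.out * (q.out⁻¹ * k * x * (q.out⁻¹ * k)⁻¹ * x⁻¹) * (x * q.out⁻¹)) * (w : G) := by
            rw [hc2]
          _ = _ := by group
    refine ⟨c, ?_⟩
    rw [hcard, hc', ← hGz, hgdef, ← relIndex_mul_index hZD]
    ring
  -- conclude
  have hSsum : Nat.card G ∣ Dn * ∑ T ∈ 𝒯, (S T).card := by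
    rw [← Finset.sum_fiberwise_of_maps_to hmaps, Finset.mul_sum]
    exact Finset.dvd_sum fun o ho => (horb o ho).1
  obtain ⟨a, ha⟩ := dvd_add hSsum hRdvd
  have hcardO : O.card ≤ 2 * (K * K * K) := by
    refine Nat.le_of_mul_le_mul_right ?_ (Nat.card_pos (α := G))
    calc O.card * Nat.card G = ∑ _o ∈ O, Nat.card G := by rw [Finset.sum_const, smul_eq_mul]
      _ ≤ ∑ o ∈ O, 2 * (K * K * K) * ∑ T ∈ 𝒯.filter (fun T => cls T = o), ((S T).card - z) :=
          Finset.sum_le_sum fun o ho => (horb o ho).2.1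
      _ = 2 * (K * K * K) * U.card := by
          rw [← Finset.mul_sum, Finset.sum_fiberwise_of_maps_to hmaps, hUcard]
      _ ≤ 2 * (K * K * K) * Nat.card G := Nat.mul_le_mul_left _ (by omega)
  have h3 : ∀ o : {o // o ∈ O}, ∃ n, 0 < n ∧ n < g ∧ n * (𝒯.filter fun T => cls T = o.1).card = g :=
    fun o => (horb o.1 o.2).2.2
  choose n hn0 hng hnf using h3
  refine egyptian _ O.attach n Dn g ((a : ℤ) - Dn) (by rw [Finset.card_attach]; exact hcardO) hDpos
    (Nat.pos_of_ne_zero index_ne_zero_of_finite) (fun o _ => hn0 o) (fun o _ => hng o) ?_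
  have hgpos : (0 : ℚ) < g := by exact_mod_cast Nat.pos_of_ne_zero (index_ne_zero_of_finite (H := Z))
  have hzpos : (0 : ℚ) < z := by exact_mod_cast Nat.card_pos (α := Z)
  have hDQ : (0 : ℚ) < Dn := by exact_mod_cast hDpos
  have hsumn : (∑ o ∈ O.attach, (1 : ℚ) / n o) = (𝒯.card : ℚ) / g := by
    rw [Finset.card_eq_sum_card_fiberwise hmaps, Nat.cast_sum, Finset.sum_div,
      ← Finset.sum_attach O (fun o => ((𝒯.filter fun T => cls T = o).card : ℚ) / g)]
    refine Finset.sum_congr rfl fun o _ => ?_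
    have h4 : (n o : ℚ) * ((𝒯.filter fun T => cls T = o.1).card : ℚ) = g := by exact_mod_cast hnf o
    have h5 : (n o : ℚ) ≠ 0 := by exact_mod_cast (hn0 o).ne'
    have h6 : ((𝒯.filter fun T => cls T = o.1).card : ℚ) ≠ 0 := by
      intro h0; rw [h0, mul_zero] at h4; exact hgpos.ne h4
    rw [← h4]; field_simp
  rw [hsumn]
  have hkey : Dn * (z * g) + Dn * (𝒯.card * z) = Dn * z + a * (z * g) := by
    have h7 : U.card + 𝒯.card * z = ∑ T ∈ 𝒯, (S T).card := by
      rw [hUcard, ← smul_eq_mul 𝒯.card z, ← Finset.sum_const z, ← Finset.sum_add_distrib]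
      refine Finset.sum_congr rfl fun T hT => ?_
      have := Finset.card_le_card (hZS T hT)
      rw [hZf] at this; omega
    rw [hGz]
    calc Dn * Nat.card G + Dn * (𝒯.card * z) = Dn * z + (Dn * (U.card + 𝒯.card * z) + Dn * R.card) := by
          rw [htotal]; ring
      _ = _ := by rw [h7, ha]; ring
  have hkeyQ : (Dn : ℚ) * (z * g) + Dn * (𝒯.card * z) = Dn * z + a * (z * g) := by exact_mod_cast hkey
  rw [div_add_div _ _ hDQ.ne' hgpos.ne', div_eq_div_iff hgpos.ne' (mul_pos hDQ hgpos).ne']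
  push_cast
  have hkey2 : (Dn : ℚ) * 𝒯.card = ((a : ℚ) - Dn) * g + Dn := by
    refine mul_left_cancel₀ hzpos.ne' ?_
    linear_combination hkeyQ
  linear_combination (g : ℚ) * hkey2

end Ctx

end Cfsg.Lib.Linear.BrauerFeit
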