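import Cfsg.Agent.Lib.Linear.BrauerFeit.Egyptian
import Mathlib

/-!
# Jordan's counting argument, abstractly

`Z` is central, centralizers of elements outside `Z` are virtually abelian (with bounded data), and
abelian subgroups behave like groups of diagonal matrices. Then `G` has an abelian subgroup of
bounded index: commensurability classes of large abelian subgroups give subgroups `T` meeting
pairwise inside `Z`, and the class equation becomes an Egyptian fraction identity.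
-/

set_option autoImplicit false

namespace Cfsg.Lib.Linear.BrauerFeit

open Subgroup

variable {G : Type*} [Group G] [Finite G]

/-- Commutative subgroup. -/
def Ab (A : Subgroup G) : Prop := ∀ a ∈ A, ∀ b ∈ A, Commute a b

/-- The hypotheses of the counting argument. -/
structure Ctx (Z : Subgroup G) (E d K : ℕ) : Prop where
  central : ∀ z ∈ Z, ∀ g : G, Commute z g
  dvd : d ∣ E
  local_ : ∀ x, x ∉ Z → ∃ A : Subgroup G, Ab A ∧ (∀ a ∈ A, Commute a x) ∧
    A.relIndex (centralizer ({x} : Set G)) ≤ K ∧ ∀ y, Commute y x → y ^ E ∈ A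
  ker : ∀ A : Subgroup G, Ab A → Nat.card {a : A // (a : G) ^ (E ^ 4) = 1} ≤ K
  exp : ∀ A : Subgroup G, Ab A → (∀ a ∈ A, a ^ (E ^ 7) ∈ Z) → Z.relIndex A ≤ K
  weights : ∀ T : Subgroup G, Ab T → ∀ N : Subgroup G, N ≤ normalizer (T : Set G) →
    (centralizer ((fun t : G => t ^ d) '' (T : Set G))).relIndex N ≤ K
  comm : ∀ x : G, Nat.card {z : Z // ∃ y, y * x * y⁻¹ = (z : G) * x} ≤ K

variable (Z : Subgroup G) (E : ℕ)

/-- `M ^ (E ^ k)` is not inside `Z`. -/
def Big (k : ℕ) (M : Subgroup G) : Prop := ∃ a ∈ M, a ^ (E ^ k) ∉ Z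

/-- The `E ^ a`-th powers of `M` commute with the `E ^ b`-th powers of `M'`. -/
def Rel (a b : ℕ) (M M' : Subgroup G) : Prop :=
  ∀ x ∈ M, ∀ y ∈ M', Commute (x ^ (E ^ a)) (y ^ (E ^ b))

/-- Large abelian subgroups. -/
def Lg (M : Subgroup G) : Prop := Ab M ∧ Big Z E 4 M

/-- The abelian subgroup attached to the class of `M`. -/
def tor (M : Subgroup G) : Subgroup G :=
  closure ((Z : Set G) ∪ {y | ∃ M' : Subgroup G, Lg Z E M' ∧ Rel E 2 2 M' M ∧ ∃ x ∈ M', x ^ (E ^ 2) = y})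

/-- The elements attributed to `T`. -/
def supp (T : Subgroup G) : Set G :=
  (T : Set G) ∪ {x | ∃ a ∈ T, Commute a x ∧ a ^ (E ^ 5) ∉ Z}

variable {Z E} {d K : ℕ}

section basic

omit [Finite G]

theorem Big.mono {k j : ℕ} {M : Subgroup G} (h : Big Z E k M) (hjk : j ≤ k) : Big Z E j M := by
  obtain ⟨a, ha, hna⟩ := h
  refine ⟨a, ha, fun hm => hna ?_⟩
  rw [show E ^ k = E ^ j * E ^ (k - j) by rw [← pow_add, Nat.add_sub_cancel' hjk], pow_mul]
  exact Z.pow_mem hm _

theorem Rel.symm {a b : ℕ} {M M' : Subgroup G} (h : Rel E a b M M') : Rel E b a M' M :=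
  fun x hx y hy => (h y hy x hx).symm

theorem Rel.mono {a b a' b' : ℕ} {M M' : Subgroup G} (h : Rel E a b M M') (ha : a ≤ a')
    (hb : b ≤ b') : Rel E a' b' M M' := fun x hx y hy => by
  rw [show E ^ a' = E ^ a * E ^ (a' - a) by rw [← pow_add, Nat.add_sub_cancel' ha],
    show E ^ b' = E ^ b * E ^ (b' - b) by rw [← pow_add, Nat.add_sub_cancel' hb], pow_mul, pow_mul]
  exact (h x hx y hy).pow_pow _ _

theorem Ab.rel {M : Subgroup G} (hM : Ab M) (a b : ℕ) : Rel E a b M M :=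
  fun x hx y hy => (hM x hx y hy).pow_pow _ _

theorem ab_zpowers (a : G) : Ab (zpowers a) := by
  rintro x hx y hy
  obtain ⟨i, rfl⟩ := mem_zpowers_iff.1 hx
  obtain ⟨j, rfl⟩ := mem_zpowers_iff.1 hy
  exact Commute.zpow_zpow_self a i j

theorem pow_mem_tor {M M' : Subgroup G} (hM' : Lg Z E M') (h : Rel E 2 2 M' M) {x : G} (hx : x ∈ M') :
    x ^ (E ^ 2) ∈ tor Z E M :=
  subset_closure (Or.inr ⟨M', hM', h, x, hx, rfl⟩)

theorem le_tor (M : Subgroup G) : Z ≤ tor Z E M := fun _ hz => subset_closure (Or.inl hz)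

theorem subset_supp (T : Subgroup G) : (T : Set G) ⊆ supp Z E T := Set.subset_union_left

theorem rel_ne_zero [Finite G] (A B : Subgroup G) : A.relIndex B ≠ 0 := index_ne_zero_of_finite

end basic

namespace Ctx

variable (h : Ctx Z E d K)
include h

omit [Finite G] in
theorem key {s x y : G} (hs : s ∉ Z) (hx : Commute x s) (hy : Commute y s) :
    Commute (x ^ E) (y ^ E) := by
  obtain ⟨A, hA, -, -, hpow⟩ := h.local_ s hs
  exact hA _ (hpow x hx) _ (hpow y hy)

omit [Finite G] in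
theorem step {a b : ℕ} {M M' : Subgroup G} (hM : Ab M) (hr : Rel E a b M M') (hbig : Big Z E a M) :
    Rel E 1 (b + 1) M M' := by
  obtain ⟨x₀, hx₀, hx₀'⟩ := hbig
  intro x hx y hy
  rw [pow_one, pow_succ, pow_mul]
  exact h.key hx₀' ((hM x hx x₀ hx₀).pow_right _) (hr x₀ hx₀ y hy).symm

omit [Finite G] in
theorem norm {a b : ℕ} {M M' : Subgroup G} (hM : Ab M) (hM' : Ab M') (hr : Rel E a b M M')
    (hbig : Big Z E a M) (hbig' : Big Z E (b + 1) M') : Rel E 2 2 M M' :=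
  ((h.step hM' (h.step hM hr hbig).symm hbig').mono (by norm_num) le_rfl).symm

omit [Finite G] in
theorem trans {M M' M'' : Subgroup G} (hM : Lg Z E M) (hM' : Lg Z E M') (hM'' : Lg Z E M'')
    (h1 : Rel E 2 2 M M') (h2 : Rel E 2 2 M' M'') : Rel E 2 2 M M'' := by
  obtain ⟨t, ht, ht'⟩ := hM'.2.mono (show 2 ≤ 4 by norm_num)
  refine h.norm (a := 3) (b := 3) hM.1 hM''.1 ?_ (hM.2.mono (by norm_num)) hM''.2
  intro x hx y hy
  rw [pow_succ, pow_mul, pow_mul]
  exact h.key ht' (h1 x hx t ht) (h2 t ht y hy).symm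

omit [Finite G] in
theorem ab_tor {M : Subgroup G} (hM : Lg Z E M) : Ab (tor Z E M) := by
  set S : Set G := (Z : Set G) ∪
    {y | ∃ M' : Subgroup G, Lg Z E M' ∧ Rel E 2 2 M' M ∧ ∃ x ∈ M', x ^ (E ^ 2) = y}
  have hgen : ∀ x ∈ S, ∀ y ∈ S, Commute x y := by
    rintro x (hx | ⟨M₁, hM₁, hr₁, u, hu, rfl⟩) y hy
    · exact h.central x hx y
    · rcases hy with hy | ⟨M₂, hM₂, hr₂, v, hv, rfl⟩
      · exact (h.central y hy _).symm
      · exact h.trans hM₁ hM hM₂ hr₁ hr₂.symm u hu v hv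
  have h1 : closure S ≤ centralizer S :=
    (closure_le _).2 fun x hx => mem_centralizer_iff.2 fun y hy => hgen y hy x hx
  have h2 : closure S ≤ centralizer (closure S : Set G) :=
    (closure_le _).2 fun x hx => mem_centralizer_iff.2 fun y hy =>
      (mem_centralizer_iff.1 (h1 hy) x hx).symm
  exact fun x hx y hy => (mem_centralizer_iff.1 (h2 hy) x hx : x * y = y * x)

omit [Finite G] in
theorem tor_le {M M' : Subgroup G} (hM : Lg Z E M) (hM' : Lg Z E M') (hr : Rel E 2 2 M M') :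
    tor Z E M ≤ tor Z E M' := by
  refine (closure_le _).2 ?_
  rintro x (hx | ⟨M₁, hM₁, hr₁, u, hu, rfl⟩)
  · exact le_tor _ hx
  · exact pow_mem_tor hM₁ (h.trans hM₁ hM hM' hr₁ hr) hu

omit [Finite G] in
theorem tor_eq {M M' : Subgroup G} (hM : Lg Z E M) (hM' : Lg Z E M') (hr : Rel E 2 2 M M') :
    tor Z E M = tor Z E M' :=
  le_antisymm (h.tor_le hM hM' hr) (h.tor_le hM' hM hr.symm)

omit [Finite G] in
theorem exists_tor_not_mem {M : Subgroup G} (hM : Lg Z E M) : ∃ a ∈ tor Z E M, a ∉ Z := by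
  obtain ⟨a, ha, ha'⟩ := hM.2.mono (show 2 ≤ 4 by norm_num)
  exact ⟨_, pow_mem_tor hM (hM.1.rel 2 2) ha, ha'⟩

omit [Finite G] in
/-- A large subgroup commuting with a non-central element of `tor M` belongs to the class. -/
theorem mem_class {M Q : Subgroup G} (hM : Lg Z E M) (hQ : Lg Z E Q) {t : G} (ht : t ∈ tor Z E M)
    (htZ : t ∉ Z) (hc : ∀ x ∈ Q, Commute x t) : Rel E 2 2 Q M := by
  refine h.norm (a := 1) (b := 3) hQ.1 hM.1 ?_ (hQ.2.mono (by norm_num)) hM.2
  intro x hx y hy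
  rw [pow_one, pow_succ E 2, pow_mul]
  exact h.key htZ (hc x hx) (h.ab_tor hM _ (pow_mem_tor hM (hM.1.rel 2 2) hy) t ht)

omit [Finite G] in
theorem same {M M' : Subgroup G} (hM : Lg Z E M) (hM' : Lg Z E M') {s : G} (hs : s ∈ tor Z E M)
    (hs' : s ∈ tor Z E M') (hsZ : s ∉ Z) : Rel E 2 2 M M' := by
  refine h.norm (a := 3) (b := 3) hM.1 hM'.1 ?_ (hM.2.mono (by norm_num)) hM'.2
  intro x hx y hy
  rw [pow_succ, pow_mul, pow_mul]
  exact h.key hsZ (h.ab_tor hM _ (pow_mem_tor hM (hM.1.rel 2 2) hx) s hs)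
    (h.ab_tor hM' _ (pow_mem_tor hM' (hM'.1.rel 2 2) hy) s hs')

omit [Finite G] in
theorem disjoint {M M' : Subgroup G} (hM : Lg Z E M) (hM' : Lg Z E M') {x : G} (hxZ : x ∉ Z)
    (hx : x ∈ supp Z E (tor Z E M)) (hx' : x ∈ supp Z E (tor Z E M')) :
    tor Z E M = tor Z E M' := by
  refine h.tor_eq hM hM' ?_
  have mixed : ∀ {M M' : Subgroup G}, Lg Z E M → Lg Z E M' →
      (∃ a ∈ tor Z E M, Commute a x ∧ a ^ (E ^ 5) ∉ Z) → x ∈ tor Z E M' → Rel E 2 2 M M' := by
    rintro M M' hM hM' ⟨a, ha, hax, ha5⟩ hxT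
    have haZ : a ∉ Z := fun hm => ha5 (Z.pow_mem hm _)
    have hQ : Lg Z E (zpowers a) := ⟨ab_zpowers a, Big.mono ⟨a, mem_zpowers a, ha5⟩ (by norm_num)⟩
    have c1 : Rel E 2 2 (zpowers a) M := h.mem_class hM hQ ha haZ fun y hy =>
      (ab_zpowers a) y hy a (mem_zpowers a)
    have c2 : Rel E 2 2 (zpowers a) M' := h.mem_class hM' hQ hxT hxZ fun y hy => by
      obtain ⟨i, rfl⟩ := mem_zpowers_iff.1 hy
      exact hax.zpow_left i
    exact h.trans hM hQ hM' c1.symm c2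
  rcases hx with hx | hx <;> rcases hx' with hx' | hx'
  · exact h.same hM hM' hx hx' hxZ
  · exact (mixed hM' hM hx' hx).symm
  · exact mixed hM hM' hx hx'
  · obtain ⟨a, ha, hax, ha5⟩ := hx
    obtain ⟨a', ha', hax', ha5'⟩ := hx'
    have haZ : a ∉ Z := fun hm => ha5 (Z.pow_mem hm _)
    have ha'Z : a' ^ E ∉ Z := fun hm => ha5' (by
      rw [show E ^ 5 = E * E ^ 4 by ring, pow_mul]; exact Z.pow_mem hm _)
    have hQ : Lg Z E (zpowers (a ^ E)) := ⟨ab_zpowers _, a ^ E, mem_zpowers _, by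
      rw [← pow_mul, show E * E ^ 4 = E ^ 5 by ring]; exact ha5⟩
    have c1 : Rel E 2 2 (zpowers (a ^ E)) M := h.mem_class hM hQ ha haZ fun y hy => by
      obtain ⟨i, rfl⟩ := mem_zpowers_iff.1 hy
      exact (Commute.pow_self a E).zpow_left i
    have c2 : Rel E 2 2 (zpowers (a ^ E)) M' := h.mem_class hM' hQ (pow_mem ha' E) ha'Z fun y hy => by
      obtain ⟨i, rfl⟩ := mem_zpowers_iff.1 hy
      exact (h.key hxZ hax hax').zpow_left i
    exact h.trans hM hQ hM' c1.symm c2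

/-- Outside all supports, centralizers modulo `Z` are small. -/
theorem small {x : G} (hxZ : x ∉ Z) (hx : ∀ M, Lg Z E M → x ∉ supp Z E (tor Z E M))
    (D : Subgroup G) (hD : ∀ g, g ∈ D ↔ g * x * g⁻¹ * x⁻¹ ∈ Z) : Z.relIndex D ≤ K * K * K := by
  obtain ⟨A, hA, hAx, hAi, -⟩ := h.local_ x hxZ
  set C := centralizer ({x} : Set G)
  have hAexp : ∀ a ∈ A, a ^ (E ^ 7) ∈ Z := by
    by_contra hcon
    push Not at hcon
    obtain ⟨a, ha, ha7⟩ := hcon
    have hbig : Big Z E 7 A := ⟨a, ha, ha7⟩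
    have hAL : Lg Z E A := ⟨hA, hbig.mono (by norm_num)⟩
    refine hx A hAL (Or.inr ⟨a ^ (E ^ 2), pow_mem_tor hAL (hA.rel 2 2) ha, (hAx a ha).pow_left _, ?_⟩)
    rwa [← pow_mul, ← pow_add]
  have hAC : A ≤ C := fun a ha => mem_centralizer_singleton_iff.2 (hAx a ha)
  have h1 : Z.relIndex C ≤ K * K := by
    refine (relIndex_le_of_le_left (inf_le_left : Z ⊓ A ≤ Z)
      (rel_ne_zero _ _)).trans ?_
    rw [← relIndex_mul_relIndex (Z ⊓ A) A C inf_le_right hAC, inf_relIndex_right]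
    exact Nat.mul_le_mul (h.exp A hA hAexp) hAi
  have hCD : C ≤ D := fun g hg => (hD g).2 (by
    rw [(mem_centralizer_singleton_iff.1 hg), mul_inv_cancel_right, mul_inv_cancel]; exact Z.one_mem)
  have hZC : Z ≤ C := fun z hz => mem_centralizer_singleton_iff.2 (h.central z hz x)
  have h2 : C.relIndex D ≤ K := by
    refine le_trans ?_ (h.comm x)
    let f : D ⧸ C.subgroupOf D → {z : Z // ∃ y, y * x * y⁻¹ = (z : G) * x} := fun q =>
      ⟨⟨(q.out : G) * x * (q.out : G)⁻¹ * x⁻¹, (hD _).1 q.out.2⟩, (q.out : G), by group⟩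
    refine Nat.card_le_card_of_injective f fun q q' he => ?_
    have he' : (q.out : G) * x * (q.out : G)⁻¹ = (q'.out : G) * x * (q'.out : G)⁻¹ :=
      mul_right_cancel (congrArg (fun z : {z : Z // ∃ y, y * x * y⁻¹ = (z : G) * x} => ((z : Z) : G)) he)
    rw [← QuotientGroup.out_eq' q, ← QuotientGroup.out_eq' q', QuotientGroup.eq]
    refine mem_subgroupOf.2 (mem_centralizer_singleton_iff.2 ?_)
    simp only [Subgroup.coe_mul, Subgroup.coe_inv]
    calc (q.out : G)⁻¹ * (q'.out : G) * x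
        = (q.out : G)⁻¹ * ((q'.out : G) * x * (q'.out : G)⁻¹) * q'.out := by group
      _ = (q.out : G)⁻¹ * ((q.out : G) * x * (q.out : G)⁻¹) * q'.out := by rw [he']
      _ = _ := by group
  rw [← relIndex_mul_relIndex Z C D hZC hCD]
  exact Nat.mul_le_mul h1 h2

/-- `T` has bounded index in its normalizer. -/
theorem relIndex_normalizer {M : Subgroup G} (hM : Lg Z E M) :
    (tor Z E M).relIndex (normalizer (tor Z E M : Set G)) ≤ K * K * K := by
  set T := tor Z E M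
  set N := normalizer (T : Set G)
  obtain ⟨a, ha, ha3⟩ := hM.2.mono (show 3 ≤ 4 by norm_num)
  obtain ⟨c, hc⟩ := h.dvd
  set s := a ^ (E ^ 3) with hs
  have ht : a ^ (E ^ 2) ∈ T := pow_mem_tor hM (hM.1.rel 2 2) ha
  have hsT : s ∈ T := by
    rw [hs, pow_succ E 2, pow_mul]
    exact pow_mem ht _
  have hsim : s ∈ (fun t : G => t ^ d) '' (T : Set G) := ⟨(a ^ (E ^ 2)) ^ c, pow_mem ht _, by
    show ((a ^ (E ^ 2)) ^ c) ^ d = s
    rw [← pow_mul, mul_comm c d, ← hc, ← pow_mul, ← pow_succ]⟩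
  obtain ⟨A, hA, hAs, hAi, -⟩ := h.local_ s ha3
  set N' := N ⊓ centralizer ((fun t : G => t ^ d) '' (T : Set G))
  have hN'C : N' ≤ centralizer ({s} : Set G) := fun g hg =>
    mem_centralizer_singleton_iff.2 ((mem_centralizer_iff.1 hg.2 s hsim).symm)
  set A' := A ⊓ N'
  have h1 : N'.relIndex N ≤ K := by
    show (N ⊓ _).relIndex N ≤ K
    rw [inf_comm, inf_relIndex_right]
    exact h.weights T (h.ab_tor hM) N le_rfl
  have h2 : A'.relIndex N' ≤ K := by
    rw [inf_relIndex_right]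
    exact (relIndex_le_of_le_right hN'C (rel_ne_zero _ _)).trans hAi
  have hmem : ∀ x ∈ A, x ^ (E ^ 4) ∈ T := by
    intro x hx
    by_cases hZx : x ^ (E ^ 4) ∈ Z
    · exact le_tor _ hZx
    · have hAL : Lg Z E A := ⟨hA, x, hx, hZx⟩
      have hr := h.mem_class hM hAL hsT ha3 hAs
      rw [show E ^ 4 = E ^ 2 * E ^ 2 by ring, pow_mul]
      exact pow_mem (pow_mem_tor hAL hr hx) _
  have hA' : Ab A' := fun x hx y hy => hA x hx.1 y hy.1
  let f : ↥A' →* ↥A' :=
    { toFun := fun x => x ^ (E ^ 4)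
      map_one' := one_pow _
      map_mul' := fun x y => Commute.mul_pow (show x * y = y * x from Subtype.ext (hA' x x.2 y y.2).eq) _ }
  have hker : Nat.card f.ker ≤ K := by
    refine le_trans (le_of_eq (Nat.card_congr ?_)) (h.ker A' hA')
    exact
      { toFun := fun x => ⟨x.1, by
          have := congrArg (Subtype.val : ↥A' → G) (MonoidHom.mem_ker.1 x.2)
          simpa [f] using this⟩
        invFun := fun x => ⟨x.1, MonoidHom.mem_ker.2 (Subtype.ext (by simpa [f] using x.2))⟩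
        left_inv := fun x => rfl
        right_inv := fun x => rfl }
  have hrange : f.range ≤ T.subgroupOf A' := by
    rintro _ ⟨x, rfl⟩
    exact mem_subgroupOf.2 (by simpa [f] using hmem x x.2.1)
  have h3 : T.relIndex A' ≤ K := by
    refine le_trans (le_trans (Nat.le_of_dvd (Nat.pos_of_ne_zero index_ne_zero_of_finite)
      (index_dvd_of_le hrange)) (le_of_eq ?_)) hker
    refine Nat.eq_of_mul_eq_mul_left (Nat.card_pos (α := f.range)) ?_
    rw [card_mul_index, ← card_mul_index f.ker, index_ker, mul_comm]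
  calc T.relIndex N ≤ (T ⊓ A').relIndex N :=
        relIndex_le_of_le_left inf_le_left (rel_ne_zero _ _)
    _ = (T ⊓ A').relIndex A' * (A'.relIndex N' * N'.relIndex N) := by
        rw [relIndex_mul_relIndex A' N' N inf_le_right inf_le_left,
          relIndex_mul_relIndex (T ⊓ A') A' N inf_le_right (inf_le_right.trans inf_le_left)]
    _ ≤ K * (K * K) := Nat.mul_le_mul (by rw [inf_relIndex_right]; exact h3) (Nat.mul_le_mul h2 h1)
    _ = K * K * K := (mul_assoc _ _ _).symm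

end Ctx

end Cfsg.Lib.Linear.BrauerFeit
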