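import Mathlib

/-!
# A bound for Egyptian fractions

If `Σ 1/nᵢ = L/D + 1/g` with every `nᵢ < g` and at most `r` summands, then `g` is bounded in `r, D`.
-/

set_option autoImplicit false

namespace Cfsg.Lib.Linear.BrauerFeit

/-- The bound. -/
def egyBound : ℕ → ℕ → ℕ
  | 0, D => D
  | r + 1, D => D + egyBound r (D * ((r + 1) * D).factorial)

theorem le_egyBound (r D : ℕ) : D ≤ egyBound r D := by
  cases r with
  | zero => exact le_rfl
  | succ r => exact Nat.le_add_right _ _

theorem egyptian : ∀ (r : ℕ) {ι : Type*} (s : Finset ι) (n : ι → ℕ) (D g : ℕ) (L : ℤ),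
    s.card ≤ r → 0 < D → 0 < g → (∀ i ∈ s, 0 < n i) → (∀ i ∈ s, n i < g) →
    (∑ i ∈ s, (1 : ℚ) / n i) = L / D + 1 / g → g ≤ egyBound r D := by
  intro r
  induction r with
  | zero =>
    intro ι s n D g L hs hD hg _ _ heq
    rw [Finset.card_eq_zero.1 (Nat.le_zero.1 hs), Finset.sum_empty] at heq
    have hD' : (0 : ℚ) < D := by exact_mod_cast hD
    have hg' : (0 : ℚ) < g := by exact_mod_cast hg
    have hL : L < 0 := by
      by_contra hL
      have : (0 : ℚ) ≤ (L : ℚ) / D := div_nonneg (by exact_mod_cast not_lt.1 hL) hD'.le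
      have : (0 : ℚ) < 1 / g := by positivity
      linarith
    have h1 : (g : ℚ) ≤ D := by
      have h2 : (L : ℚ) ≤ -1 := by exact_mod_cast (show L ≤ -1 by omega)
      have h4 : (L : ℚ) * g + D = 0 := by
        have h3 := heq
        field_simp at h3
        linarith [h3]
      nlinarith [mul_le_mul_of_nonneg_right h2 hg'.le]
    exact_mod_cast h1
  | succ r ih =>
    intro ι s n D g L hs hD hg hpos hlt heq
    classical
    have hD' : (0 : ℚ) < D := by exact_mod_cast hD
    have hg' : (0 : ℚ) < g := by exact_mod_cast hg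
    rcases lt_trichotomy L 0 with hL | hL | hL
    · -- `1/g ≥ 1/D`
      have h0 : (0 : ℚ) ≤ ∑ i ∈ s, (1 : ℚ) / n i := Finset.sum_nonneg fun i _ => by positivity
      have h2 : (L : ℚ) ≤ -1 := by exact_mod_cast (show L ≤ -1 by omega)
      have h3 : (1 : ℚ) / D ≤ 1 / g := by
        have : (L : ℚ) / D ≤ -1 / D := div_le_div_of_nonneg_right h2 hD'.le
        rw [neg_div] at this
        linarith
      have h1 : g ≤ D := by exact_mod_cast (one_div_le_one_div hD' hg').1 h3
      exact h1.trans (le_egyBound _ _)
    · exfalso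
      subst hL
      rw [Int.cast_zero, zero_div, zero_add] at heq
      rcases s.eq_empty_or_nonempty with rfl | ⟨i, hi⟩
      · rw [Finset.sum_empty] at heq
        exact (one_div_pos.2 hg').ne heq
      · have h1 : (1 : ℚ) / n i ≤ ∑ j ∈ s, (1 : ℚ) / n j :=
          Finset.single_le_sum (f := fun j => (1 : ℚ) / n j) (fun j _ => by positivity) hi
        have h2 : (1 : ℚ) / g < 1 / n i :=
          one_div_lt_one_div_of_lt (by exact_mod_cast hpos i hi) (by exact_mod_cast hlt i hi)
        linarith
    · have hne : s.Nonempty := by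
        rcases s.eq_empty_or_nonempty with rfl | h
        · rw [Finset.sum_empty] at heq
          have h1 : (0 : ℚ) < (L : ℚ) / D := div_pos (by exact_mod_cast hL) hD'
          have h2 : (0 : ℚ) < 1 / g := by positivity
          linarith
        · exact h
      obtain ⟨i, hi, hmin⟩ := s.exists_min_image n hne
      have hsum : (∑ j ∈ s, (1 : ℚ) / n j) ≤ (s.card : ℚ) * (1 / n i) := by
        have h := Finset.sum_le_card_nsmul s (fun j => (1 : ℚ) / n j) (1 / n i) fun j hj =>
          one_div_le_one_div_of_le (by exact_mod_cast hpos i hi) (by exact_mod_cast hmin j hj)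
        rwa [nsmul_eq_mul] at h
      have hni : n i ≤ (r + 1) * D := by
        have h1 : (1 : ℚ) / D ≤ ∑ j ∈ s, (1 : ℚ) / n j := by
          have : (1 : ℚ) ≤ L := by exact_mod_cast hL
          have h2 : (1 : ℚ) / D ≤ (L : ℚ) / D := div_le_div_of_nonneg_right this hD'.le
          have h3 : (0 : ℚ) < 1 / g := by positivity
          linarith
        have h2 := h1.trans hsum
        have hn0 : (0 : ℚ) < n i := by exact_mod_cast hpos i hi
        rw [mul_one_div, div_le_div_iff₀ hD' hn0, one_mul] at h2
        have h3 : n i ≤ s.card * D := by exact_mod_cast h2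
        exact h3.trans (Nat.mul_le_mul_right _ hs)
      set D' := D * ((r + 1) * D).factorial with hD'def
      obtain ⟨c, hc⟩ : n i ∣ D' :=
        (Nat.dvd_factorial (hpos i hi) hni).trans (Dvd.intro_left _ rfl)
      have hcard : (s.erase i).card ≤ r := by rw [Finset.card_erase_of_mem hi]; omega
      refine (ih (s.erase i) n D' g (L * ((r + 1) * D).factorial - c) hcard ?_ hg
        (fun j hj => hpos j (Finset.mem_of_mem_erase hj))
        (fun j hj => hlt j (Finset.mem_of_mem_erase hj)) ?_).trans (Nat.le_add_left _ _)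
      · exact Nat.mul_pos hD (Nat.factorial_pos _)
      · rw [Finset.sum_erase_eq_sub hi, heq]
        have hn0 : (n i : ℚ) ≠ 0 := by exact_mod_cast (hpos i hi).ne'
        have hc0 : (c : ℚ) ≠ 0 := by
          intro h
          have h0 : c = 0 := by exact_mod_cast h
          rw [h0, mul_zero] at hc
          exact (Nat.mul_pos hD (Nat.factorial_pos _)).ne' hc
        have hcQ : (D' : ℚ) = n i * c := by exact_mod_cast hc
        have hfac : ((((r + 1) * D).factorial : ℕ) : ℚ) ≠ 0 := by
          exact_mod_cast (Nat.factorial_pos _).ne'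
        have e1 : (1 : ℚ) / n i = (c : ℚ) / D' := by rw [hcQ]; field_simp
        have e2 : (L : ℚ) / D = (L * ((((r + 1) * D).factorial : ℕ) : ℚ)) / D' := by
          rw [hD'def, Nat.cast_mul, mul_div_mul_right _ _ hfac]
        rw [e1, e2]
        push_cast
        ring

end Cfsg.Lib.Linear.BrauerFeit
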