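import Cfsg.Agent.Lib.Linear.BrauerFeit.ClassEquation

/-!
# The characteristic `p` analogue of Jordan's theorem

A finite linear group in characteristic `p` whose Sylow `p`-subgroups have order at most `p ^ m` has
an abelian subgroup of index bounded in terms of `p`, `m` and the degree.
-/

set_option autoImplicit false

namespace Cfsg.Lib.Linear.BrauerFeit

open Subgroup Module

universe u v

variable {p : ℕ} [hp : Fact p.Prime]

section group

variable {X : Type u} [Group X] [Finite X] {m : ℕ}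

theorem factorization_le (hX : (Nat.card X).factorization p ≤ m) {k : ℕ} (hk : k ∣ Nat.card X) :
    k.factorization p ≤ m := by
  have hk0 : k ≠ 0 := by rintro rfl; exact Nat.card_pos.ne' (zero_dvd_iff.1 hk)
  exact ((Nat.factorization_le_iff_dvd hk0 Nat.card_pos.ne').2 hk p).trans hX

theorem pow_le (hX : (Nat.card X).factorization p ≤ m) {k : ℕ} (hk : p ^ k ∣ Nat.card X) : k ≤ m := by
  have := factorization_le hX hk
  rwa [hp.out.factorization_pow, Finsupp.single_eq_same] at this

theorem card_le_of_isPGroup (hX : (Nat.card X).factorization p ≤ m) {Y : Type u} [Group Y] [Finite Y]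
    (hY : IsPGroup p Y) (hdvd : Nat.card Y ∣ Nat.card X) : Nat.card Y ≤ p ^ m := by
  obtain ⟨k, hk⟩ := IsPGroup.iff_card.1 hY
  rw [hk] at hdvd ⊢
  exact Nat.pow_le_pow_right hp.out.pos (pow_le hX hdvd)

omit [Finite X] in
theorem pow_eq_one_pow {y : X} {k : ℕ} (hy : y ^ p ^ k = 1) (hk : k ≤ m) : y ^ p ^ m = 1 := by
  obtain ⟨c, hc⟩ := Nat.exists_eq_add_of_le hk
  rw [hc, pow_add, pow_mul, hy, one_pow]

theorem exists_normal_abelian {A : Subgroup X} (hA : Ab A) {B : ℕ} (hB : A.index ≤ B) :
    ∃ N : Subgroup X, N.Normal ∧ Ab N ∧ N.index ∣ B.factorial := by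
  refine ⟨A.normalCore, inferInstance, fun a ha b hb =>
    hA a (normalCore_le A ha) b (normalCore_le A hb), dvd_trans ?_ (Nat.factorial_dvd_factorial hB)⟩
  rw [normalCore_eq_ker, index_ker, index, ← Nat.card_perm]
  exact card_subgroup_dvd_card _

/-- Two homomorphisms with a `p`-group as common kernel and virtually abelian images. -/
theorem exists_abelian_of_two {M₁ M₂ : Type*} [Monoid M₁] [Monoid M₂] (f₁ : X →* M₁) (f₂ : X →* M₂)
    (hX : (Nat.card X).factorization p ≤ m) (hU : IsPGroup p (f₁.ker ⊓ f₂.ker : Subgroup X))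
    {A₁ A₂ : Subgroup X} (h₁ : ∀ a ∈ A₁, ∀ b ∈ A₁, f₁ (a * b * a⁻¹ * b⁻¹) = 1)
    (h₂ : ∀ a ∈ A₂, ∀ b ∈ A₂, f₂ (a * b * a⁻¹ * b⁻¹) = 1) :
    ∃ A : Subgroup X, Ab A ∧ A.index ≤ A₁.index * A₂.index * (p ^ m).factorial * p ^ m := by
  set U : Subgroup X := f₁.ker ⊓ f₂.ker
  have hUc : Nat.card U ≤ p ^ m := card_le_of_isPGroup hX hU (card_subgroup_dvd_card U)
  set C := centralizer (U : Set X)
  have hC : C.index ≤ (p ^ m).factorial := by
    haveI : U.Normal := inferInstance
    refine le_trans ?_ (Nat.factorial_le hUc)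
    let φ : X →* MulAut U := MulAut.conjNormal
    have hker : φ.ker ≤ C := by
      intro g hg
      refine mem_centralizer_iff.2 fun w hw => ?_
      have h := congrArg (Subtype.val : U → X)
        (congrArg (fun e : MulAut U => e ⟨w, hw⟩) (MonoidHom.mem_ker.1 hg))
      simp only [φ, MulAut.conjNormal_apply, MulAut.one_apply] at h
      calc w * g = (g * w * g⁻¹) * g := by rw [h]
        _ = g * w := by group
    refine (Nat.le_of_dvd (Nat.pos_of_ne_zero index_ne_zero_of_finite) (index_dvd_of_le hker)).trans ?_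
    rw [index_ker, ← Nat.card_perm]
    exact Nat.card_le_card_of_injective (fun e : φ.range => (e : MulAut U).toEquiv)
      fun a b hab => Subtype.ext (MulEquiv.ext fun x => Equiv.ext_iff.1 hab x)
  set K := A₁ ⊓ A₂ ⊓ C
  have hcen : ∀ b : K, b ^ p ^ m ∈ center K := by
    intro b
    refine mem_center_iff.2 fun a => Subtype.ext ?_
    set c := (a : X) * b * (a : X)⁻¹ * (b : X)⁻¹ with hc
    have hcU : c ∈ U := ⟨h₁ _ a.2.1.1 _ b.2.1.1, h₂ _ a.2.1.2 _ b.2.1.2⟩
    have hcb : Commute c (b : X) := mem_centralizer_iff.1 b.2.2 c hcU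
    obtain ⟨k, hk⟩ := hU ⟨c, hcU⟩
    have hk' : c ^ p ^ k = 1 := by simpa using congrArg (Subtype.val : U → X) hk
    obtain ⟨j, -, hj⟩ := (Nat.dvd_prime_pow hp.out).1 (orderOf_dvd_of_pow_eq_one hk')
    have hjm : j ≤ m := pow_le hX (hj ▸ orderOf_dvd_natCard c)
    have hcm : c ^ p ^ m = 1 := pow_eq_one_pow (hj ▸ pow_orderOf_eq_one c) hjm
    have h1 : (a : X) * (b : X) ^ p ^ m * (a : X)⁻¹ = (b : X) ^ p ^ m := by
      rw [← conj_pow, show (a : X) * b * (a : X)⁻¹ = c * b by rw [hc]; group, hcb.mul_pow, hcm, one_mul]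
    rw [Subgroup.coe_mul, Subgroup.coe_mul, Subgroup.coe_pow]
    calc (a : X) * (b : X) ^ p ^ m = (a : X) * (b : X) ^ p ^ m * (a : X)⁻¹ * a := by group
      _ = _ := by rw [h1]
  have hq : (center K).index ≤ p ^ m := by
    rw [index_eq_card]
    refine card_le_of_isPGroup hX ?_ ((card_quotient_dvd_card _).trans (card_subgroup_dvd_card K))
    intro q
    obtain ⟨b, rfl⟩ := QuotientGroup.mk_surjective q
    exact ⟨m, by rw [← QuotientGroup.mk_pow, QuotientGroup.eq_one_iff]; exact hcen b⟩
  refine ⟨(center K).map K.subtype, ?_, ?_⟩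
  · rintro _ ⟨a, ha, rfl⟩ _ ⟨b, hb, rfl⟩
    exact congrArg Subtype.val (mem_center_iff.1 hb a)
  · rw [index_map_subtype]
    calc (center K).index * K.index ≤ p ^ m * (A₁.index * A₂.index * (p ^ m).factorial) := by
          refine Nat.mul_le_mul hq (index_inf_le.trans (Nat.mul_le_mul index_inf_le hC))
      _ = _ := mul_comm _ _

end group

section linear

variable {F : Type v} [Field F] [CharP F p]

/-- The bound holds in degree at most `n`. -/
def Bdd (F : Type v) [Field F] (p m n B : ℕ) : Prop :=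
  ∀ (X : Type u) [Group X] [Finite X] (V : Type v) [AddCommGroup V] [Module F V]
    [FiniteDimensional F V] (ρ : Representation F X V), Function.Injective ρ → finrank F V ≤ n →
      (Nat.card X).factorization p ≤ m → ∃ A : Subgroup X, Ab A ∧ A.index ≤ B

variable {X : Type u} [Group X] [Finite X] {V : Type v} [AddCommGroup V] [Module F V]
  [FiniteDimensional F V] {m n B : ℕ}

/-- The bound for reducible groups. -/
def redBound (p m B : ℕ) : ℕ := B.factorial * B.factorial * (p ^ m).factorial * p ^ m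

omit [CharP F p] in
theorem exists_kernel_abelian (hB : Bdd.{u} F p m n B) (ρ : Representation F X V)
    (hrank : finrank F V ≤ n) (hX : (Nat.card X).factorization p ≤ m) :
    ∃ A : Subgroup X, A.index ∣ B.factorial ∧ ∀ a ∈ A, ∀ b ∈ A, ρ (a * b * a⁻¹ * b⁻¹) = 1 := by
  let f : X →* End F V := ρ
  let ρq : Representation F (X ⧸ f.ker) V := QuotientGroup.lift f.ker f le_rfl
  have hq : Function.Injective ρq := by
    intro a b hab
    obtain ⟨a, rfl⟩ := QuotientGroup.mk_surjective a
    obtain ⟨b, rfl⟩ := QuotientGroup.mk_surjective b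
    rw [QuotientGroup.eq, MonoidHom.mem_ker, map_mul]
    have h : f a = f b := hab
    rw [← h, ← map_mul, inv_mul_cancel, map_one]
  obtain ⟨A, hA, hAi⟩ := hB (X ⧸ f.ker) V ρq hq hrank (factorization_le hX (card_quotient_dvd_card _))
  obtain ⟨N, _, hN, hNi⟩ := exists_normal_abelian hA hAi
  refine ⟨N.comap (QuotientGroup.mk' _), ?_, fun a ha b hb => ?_⟩
  · rwa [index_comap_of_surjective _ (QuotientGroup.mk'_surjective _)]
  · show f (a * b * a⁻¹ * b⁻¹) = 1
    rw [← MonoidHom.mem_ker, ← QuotientGroup.eq_one_iff, QuotientGroup.mk_mul, QuotientGroup.mk_mul,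
      QuotientGroup.mk_mul, QuotientGroup.mk_inv, QuotientGroup.mk_inv, ← commutatorElement_def,
      commutatorElement_eq_one_iff_mul_comm]
    exact hN _ ha _ hb

/-- The reducible case. -/
theorem exists_abelian_of_invariant (hB : Bdd.{u} F p m n B) (ρ : Representation F X V)
    (hinj : Function.Injective ρ) (hrank : finrank F V ≤ n + 1)
    (hX : (Nat.card X).factorization p ≤ m) (W : Submodule F V) (hW : ∀ g, W ≤ W.comap (ρ g))
    (hW0 : W ≠ ⊥) (hW1 : W ≠ ⊤) : ∃ A : Subgroup X, Ab A ∧ A.index ≤ redBound p m B := by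
  have h1 : finrank F W < finrank F V := Submodule.finrank_lt hW1
  have h2 : finrank F (V ⧸ W) < finrank F V := by
    have := Submodule.finrank_quotient_add_finrank W
    have : 0 < finrank F W := Submodule.one_le_finrank_iff.2 hW0
    omega
  obtain ⟨A₁, hi₁, hA₁⟩ := exists_kernel_abelian hB (ρ.subrepresentation W hW) (by omega) hX
  obtain ⟨A₂, hi₂, hA₂⟩ := exists_kernel_abelian hB (ρ.quotient W hW) (by omega) hX
  have hU : IsPGroup p (MonoidHom.ker (ρ.subrepresentation W hW) ⊓
      MonoidHom.ker (ρ.quotient W hW) : Subgroup X) := by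
    intro g
    refine ⟨1, Subtype.ext (hinj ?_)⟩
    rw [Subgroup.coe_pow, map_pow, Subgroup.coe_one, map_one, pow_one]
    set f := ρ (g : X)
    have hsub : ∀ w ∈ W, f w = w := fun w hw => by
      have := congrArg (fun φ : End F W => (φ ⟨w, hw⟩ : V)) (MonoidHom.mem_ker.1 g.2.1)
      simpa [f] using this
    have hquo : ∀ v, f v - v ∈ W := fun v => by
      rw [← Submodule.Quotient.eq]
      have := congrArg (fun φ : End F (V ⧸ W) => φ (Submodule.Quotient.mk v)) (MonoidHom.mem_ker.1 g.2.2)
      simpa [f] using this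
    have hpow : ∀ (k : ℕ) (v : V), (f ^ k) v = v + (k : F) • (f v - v) := by
      intro k
      induction k with
      | zero => intro v; simp
      | succ k ih =>
        intro v
        rw [pow_succ', Module.End.mul_apply, ih, map_add, map_smul, hsub _ (hquo v), Nat.cast_succ,
          add_smul, one_smul]
        abel
    refine LinearMap.ext fun v => ?_
    rw [hpow, CharP.cast_eq_zero, zero_smul, add_zero]
    rfl
  obtain ⟨A, hA, hAi⟩ := exists_abelian_of_two (ρ.subrepresentation W hW) (ρ.quotient W hW) hX hU hA₁ hA₂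
  refine ⟨A, hA, hAi.trans ?_⟩
  unfold redBound
  gcongr
  · exact Nat.le_of_dvd (Nat.factorial_pos _) hi₁
  · exact Nat.le_of_dvd (Nat.factorial_pos _) hi₂

variable [IsAlgClosed F]

omit [CharP F p] in
/-- Powers with exponent `p ^ m` of commuting elements are simultaneously diagonalizable. -/
theorem exists_weights [CharP F p] (ρ : Representation F X V) (hX : (Nat.card X).factorization p ≤ m)
    {A : Subgroup X} (hA : Ab A) (hrank : finrank F V ≤ n) :
    ∃ W : Set (A → F), W.Finite ∧ W.ncard ≤ n ∧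
      (∀ χ, χ ∈ W ↔ ∃ v : V, v ≠ 0 ∧ ∀ a : A, ρ ((a : X) ^ p ^ m) v = χ a • v) ∧
      (∀ (a b : A) (c : F), (∀ χ ∈ W, χ a = c * χ b) → ρ ((a : X) ^ p ^ m) = c • ρ ((b : X) ^ p ^ m)) := by
  let f : A → End F V := fun a => ρ ((a : X) ^ p ^ m)
  have hss : ∀ a, (f a).IsSemisimple := by
    intro a
    obtain ⟨k, r, hr, he⟩ := Nat.exists_eq_pow_mul_and_not_dvd (orderOf_pos (a : X)).ne' p hp.out.ne_one
    have hk : k ≤ m := pow_le hX (Dvd.dvd.trans (Dvd.intro r he.symm) (orderOf_dvd_natCard (a : X)))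
    obtain ⟨c, hc⟩ := Nat.exists_eq_add_of_le hk
    have hfr : f a ^ r = 1 := by
      show ρ ((a : X) ^ p ^ m) ^ r = 1
      rw [← map_pow, ← pow_mul, hc, show p ^ (k + c) * r = orderOf (a : X) * p ^ c by rw [he]; ring,
        pow_mul, pow_orderOf_eq_one, one_pow, map_one]
    have hrF : (r : F) ≠ 0 := fun h => hr ((CharP.cast_eq_zero_iff F p r).1 h)
    refine Module.End.isSemisimple_of_squarefree_aeval_eq_zero
      (p := (Polynomial.X ^ r - Polynomial.C (1 : F)))
      (Polynomial.separable_X_pow_sub_C 1 hrF one_ne_zero).squarefree ?_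
    simp [hfr]
  have hmax : ∀ a μ, (f a).maxGenEigenspace μ = (f a).eigenspace μ := fun a μ =>
    (Module.End.isFinitelySemisimple_iff_isSemisimple.mpr (hss a)).maxGenEigenspace_eq_eigenspace μ
  have hcomm : ∀ a b, Commute (f a) (f b) := fun a b => ((hA _ a.2 _ b.2).pow_pow _ _).map ρ
  let P : (A → F) → Submodule F V := fun χ => ⨅ a, (f a).maxGenEigenspace (χ a)
  have hind : iSupIndep P := Module.End.independent_iInf_maxGenEigenspace_of_forall_mapsTo f
    fun i j φ => Module.End.mapsTo_maxGenEigenspace_of_comm (hcomm j i) φ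
  have htop : ⨆ χ, P χ = ⊤ :=
    Module.End.iSup_iInf_maxGenEigenspace_eq_top_of_iSup_maxGenEigenspace_eq_top_of_commute f
      (fun i j _ => hcomm i j) fun i => Module.End.iSup_maxGenEigenspace_eq_top (f i)
  have hmemP : ∀ χ v, v ∈ P χ ↔ ∀ a, f a v = χ a • v := fun χ v => by
    simp only [P, Submodule.mem_iInf, hmax, Module.End.mem_eigenspace_iff]
  letI : Fintype {χ // P χ ≠ ⊥} := hind.fintypeNeBotOfFiniteDimensional
  letI : Fintype ↑{χ | P χ ≠ ⊥} := (inferInstance : Fintype {χ // P χ ≠ ⊥})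
  refine ⟨{χ | P χ ≠ ⊥}, Set.toFinite _, ?_, fun χ => ?_, fun a b c hab => ?_⟩
  · rw [← Nat.card_coe_set_eq, Nat.card_eq_fintype_card]
    exact (Fintype.card_congr (Equiv.refl _)).le.trans (hind.subtype_ne_bot_le_finrank.trans hrank)
  · constructor
    · intro hχ
      obtain ⟨v, hv, hv0⟩ := (Submodule.ne_bot_iff _).1 hχ
      exact ⟨v, hv0, (hmemP χ v).1 hv⟩
    · rintro ⟨v, hv0, hv⟩ hbot
      have h1 : v ∈ P χ := (hmemP χ v).2 hv
      rw [hbot] at h1
      exact hv0 (Submodule.mem_bot F |>.1 h1)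
  · refine LinearMap.ext fun v => ?_
    have hle : (⊤ : Submodule F V) ≤ LinearMap.eqLocus (f a) (c • f b) := by
      rw [← htop]
      refine iSup_le fun χ => ?_
      by_cases hχ : P χ = ⊥
      · rw [hχ]; exact bot_le
      intro w hw
      show f a w = (c • f b) w
      rw [LinearMap.smul_apply, (hmemP χ w).1 hw a, (hmemP χ w).1 hw b, smul_smul, hab χ hχ]
    exact hle (Submodule.mem_top (x := v))

omit [FiniteDimensional F V] [IsAlgClosed F] in
theorem roots_bound {e : ℕ} (he : 0 < e) :
    ∃ R : Finset F, R.card ≤ e ∧ ∀ x : F, x ^ e = 1 → x ∈ R := by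
  classical
  refine ⟨(Polynomial.nthRoots e (1 : F)).toFinset,
    (Multiset.toFinset_card_le _).trans (Polynomial.card_nthRoots e 1), fun x hx => ?_⟩
  rw [Multiset.mem_toFinset, Polynomial.mem_nthRoots he]
  exact hx

/-- Abelian subgroups of bounded exponent are small. -/
theorem card_le_of_pow_eq_one (ρ : Representation F X V) (hinj : Function.Injective ρ)
    (hX : (Nat.card X).factorization p ≤ m) (hrank : finrank F V ≤ n) {e : ℕ} (he : 0 < e)
    {A : Subgroup X} (hA : Ab A) (hAe : ∀ a ∈ A, a ^ e = 1) :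
    Nat.card A ≤ p ^ m * e ^ n := by
  obtain ⟨W, hWfin, hWn, hWmem, hWext⟩ := exists_weights ρ hX hA hrank
  obtain ⟨R, hR, hRmem⟩ := roots_bound (F := F) he
  let φ : ↥A →* ↥A :=
    { toFun := fun x => x ^ (p ^ m)
      map_one' := one_pow _
      map_mul' := fun x y => Commute.mul_pow (show x * y = y * x from Subtype.ext (hA x x.2 y y.2).eq) _ }
  have hker : Nat.card φ.ker ≤ p ^ m := by
    refine card_le_of_isPGroup hX (fun x => ⟨m, Subtype.ext ?_⟩)
      ((card_subgroup_dvd_card φ.ker).trans (card_subgroup_dvd_card A))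
    exact MonoidHom.mem_ker.1 x.2
  have hval : ∀ (x : A) (χ : W), χ.1 x ∈ R := by
    intro x χ
    obtain ⟨v, hv0, hv⟩ := (hWmem χ).1 χ.2
    refine hRmem _ (smul_left_injective F hv0 ?_)
    have h1 : ∀ k : ℕ, (ρ ((x : X) ^ p ^ m) ^ k) v = (χ.1 x) ^ k • v := by
      intro k
      induction k with
      | zero => simp
      | succ k ih => rw [pow_succ', Module.End.mul_apply, ih, map_smul, hv, smul_smul, pow_succ]
    have h2 := h1 e
    rw [← map_pow, ← pow_mul, mul_comm, pow_mul, hAe _ x.2, one_pow, map_one] at h2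
    simpa using h2.symm
  haveI : Finite W := hWfin.to_subtype
  have hrange : Nat.card φ.range ≤ e ^ n := by
    let ψ : φ.range → (W → R) := fun y χ => ⟨χ.1 (Classical.choose y.2), hval _ χ⟩
    refine (Nat.card_le_card_of_injective ψ fun y y' hy => ?_).trans ?_
    · have hy' := Classical.choose_spec y.2
      have hy'' := Classical.choose_spec y'.2
      refine Subtype.ext (hy'.symm.trans (Eq.trans (Subtype.ext (hinj ?_)) hy''))
      have := hWext (Classical.choose y.2) (Classical.choose y'.2) 1 fun χ hχ => by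
        rw [one_mul]; exact congrArg Subtype.val (congrFun hy ⟨χ, hχ⟩)
      simpa [φ] using this
    · rw [Nat.card_fun, Nat.card_eq_fintype_card (α := R), Fintype.card_coe, Nat.card_coe_set_eq]
      exact (Nat.pow_le_pow_left hR _).trans (Nat.pow_le_pow_right he hWn)
  calc Nat.card A = Nat.card φ.ker * Nat.card φ.range := by rw [← card_mul_index φ.ker, index_ker]
    _ ≤ _ := Nat.mul_le_mul hker hrange

/-- Abelian subgroups of bounded exponent modulo scalars are small modulo scalars. -/
theorem relIndex_le_of_pow_mem (ρ : Representation F X V) [Nontrivial V]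
    (hX : (Nat.card X).factorization p ≤ m) (hrank : finrank F V ≤ n) {Z : Subgroup X}
    (hZ : ∀ g, g ∈ Z ↔ ∃ c : F, ρ g = c • (1 : End F V)) {e : ℕ} (he : 0 < e)
    {A : Subgroup X} (hA : Ab A) (hAe : ∀ a ∈ A, a ^ e ∈ Z) :
    Z.relIndex A ≤ p ^ m * e ^ n := by
  obtain ⟨W, hWfin, hWn, hWmem, hWext⟩ := exists_weights ρ hX hA hrank
  obtain ⟨R, hR, hRmem⟩ := roots_bound (F := F) he
  have hne : ∀ (x : A) (χ : W), χ.1 x ≠ 0 := by
    intro x χ h0
    obtain ⟨v, hv0, hv⟩ := (hWmem χ).1 χ.2
    have h1 := hv x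
    rw [h0, zero_smul] at h1
    exact hv0 ((ρ.apply_bijective _).1 (h1.trans (map_zero _).symm))
  have hpow : ∀ (x : A), ∃ c : F, ∀ χ : W, (χ.1 x) ^ e = c := by
    intro x
    obtain ⟨c, hc⟩ := (hZ _).1 (hAe _ (pow_mem x.2 (p ^ m)))
    refine ⟨c, fun χ => ?_⟩
    obtain ⟨v, hv0, hv⟩ := (hWmem χ).1 χ.2
    refine smul_left_injective F hv0 ?_
    have h1 : ∀ k : ℕ, (ρ ((x : X) ^ p ^ m) ^ k) v = (χ.1 x) ^ k • v := by
      intro k
      induction k with
      | zero => simp
      | succ k ih => rw [pow_succ', Module.End.mul_apply, ih, map_smul, hv, smul_smul, pow_succ]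
    have h2 := h1 e
    rw [← map_pow, hc] at h2
    simpa using h2.symm
  haveI : Finite W := hWfin.to_subtype
  let K₁ : Subgroup A :=
    { carrier := {x | ((x : X) ^ p ^ m) ∈ Z}
      one_mem' := by simp [Z.one_mem]
      mul_mem' := fun {x y} hx hy => by
        simp only [Set.mem_setOf_eq, Subgroup.coe_mul] at hx hy ⊢
        rw [(hA x x.2 y y.2).mul_pow]; exact Z.mul_mem hx hy
      inv_mem' := fun {x} hx => by
        simp only [Set.mem_setOf_eq, Subgroup.coe_inv, inv_pow] at hx ⊢
        exact Z.inv_mem hx }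
  have hle : Z.subgroupOf A ≤ K₁ := fun x hx => Z.pow_mem (mem_subgroupOf.1 hx) _
  haveI : (Z.subgroupOf A).Normal :=
    ⟨fun x hx g => by
      rwa [show g * x * g⁻¹ = x from Subtype.ext (by
        show (g : X) * x * (g : X)⁻¹ = x
        rw [(hA g g.2 x x.2).eq, mul_inv_cancel_right])]⟩
  have h1 : (Z.subgroupOf A).relIndex K₁ ≤ p ^ m := by
    rw [relIndex, index_eq_card]
    refine card_le_of_isPGroup hX ?_ ((card_quotient_dvd_card _).trans
      ((card_subgroup_dvd_card K₁).trans (card_subgroup_dvd_card A)))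
    intro q
    obtain ⟨b, rfl⟩ := QuotientGroup.mk_surjective q
    refine ⟨m, ?_⟩
    rw [← QuotientGroup.mk_pow, QuotientGroup.eq_one_iff, mem_subgroupOf, mem_subgroupOf,
      Subgroup.coe_pow, Subgroup.coe_pow]
    exact b.2
  have h2 : K₁.index ≤ e ^ n := by
    rcases isEmpty_or_nonempty W with hW | hW
    · -- no weights: every power is trivial
      exfalso
      have h0 := hWext 1 1 0 (fun χ hχ => absurd hχ (fun h => hW.elim ⟨χ, h⟩))
      simp only [OneMemClass.coe_one, one_pow, map_one, zero_smul] at h0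
      exact one_ne_zero h0
    obtain ⟨χ₀⟩ := hW
    let ψ : A ⧸ K₁ → (W → R) := fun q χ => ⟨χ.1 q.out / χ₀.1 q.out, hRmem _ (by
      obtain ⟨c, hc⟩ := hpow q.out
      rw [div_pow, hc, hc, div_self]
      rw [← hc χ₀]
      exact pow_ne_zero _ (hne _ _))⟩
    rw [index_eq_card]
    refine (Nat.card_le_card_of_injective ψ fun q q' hqq => ?_).trans ?_
    · rw [← QuotientGroup.out_eq' q, ← QuotientGroup.out_eq' q', QuotientGroup.eq]
      set a := q.out; set b := q'.out
      have hext := hWext b a (χ₀.1 b / χ₀.1 a) fun χ hχ => by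
        have h3 : χ a / χ₀.1 a = χ b / χ₀.1 b := congrArg Subtype.val (congrFun hqq ⟨χ, hχ⟩)
        rw [div_eq_div_iff (hne _ _) (hne _ _)] at h3
        field_simp [hne a χ₀]
        linear_combination -h3
      show ((a⁻¹ * b : A) : X) ^ p ^ m ∈ Z
      rw [hZ]
      refine ⟨χ₀.1 b / χ₀.1 a, ?_⟩
      rw [Subgroup.coe_mul, Subgroup.coe_inv, (((hA a a.2 b b.2).inv_left)).mul_pow, inv_pow,
        map_mul, hext, mul_smul_comm, ← map_mul, inv_mul_cancel, map_one]
    · rw [Nat.card_fun, Nat.card_eq_fintype_card (α := R), Fintype.card_coe, Nat.card_coe_set_eq]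
      exact (Nat.pow_le_pow_left hR _).trans (Nat.pow_le_pow_right he hWn)
  rw [relIndex, ← relIndex_mul_index hle]
  exact Nat.mul_le_mul h1 h2

/-- A group normalizing an abelian subgroup centralizes its `p ^ m`-th powers up to bounded index. -/
theorem relIndex_centralizer_le (ρ : Representation F X V) (hinj : Function.Injective ρ)
    (hX : (Nat.card X).factorization p ≤ m) (hrank : finrank F V ≤ n) {T : Subgroup X} (hT : Ab T)
    {N : Subgroup X} (hN : N ≤ normalizer (T : Set X)) :
    (centralizer ((fun t : X => t ^ p ^ m) '' (T : Set X))).relIndex N ≤ (n + 1) ^ (n + 1) := by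
  obtain ⟨W, hWfin, hWn, hWmem, hWext⟩ := exists_weights ρ hX hT hrank
  haveI : Finite W := hWfin.to_subtype
  set C := centralizer ((fun t : X => t ^ p ^ m) '' (T : Set X))
  let cj : N → T → T := fun y t =>
    ⟨(y : X) * t * (y : X)⁻¹, (mem_normalizer_iff.1 (hN y.2) t).1 t.2⟩
  have hperm : ∀ (y : N) (χ : W), (fun t => χ.1 (cj y t)) ∈ W := by
    intro y χ
    obtain ⟨v, hv0, hv⟩ := (hWmem χ).1 χ.2
    refine (hWmem _).2 ⟨ρ (y : X)⁻¹ v, fun h => hv0 ((ρ.apply_bijective _).1 (h.trans (map_zero _).symm)),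
      fun t => ?_⟩
    have h1 := hv (cj y t)
    have h2 : ((cj y t : T) : X) ^ p ^ m = (y : X) * (t : X) ^ p ^ m * (y : X)⁻¹ := conj_pow
    rw [h2] at h1
    rw [← map_smul, ← h1, ← Module.End.mul_apply, ← map_mul, ← Module.End.mul_apply, ← map_mul]
    congr 2
    group
  rw [relIndex, index_eq_card]
  let ψ : N ⧸ C.subgroupOf N → (W → W) := fun q χ => ⟨_, hperm q.out χ⟩
  refine (Nat.card_le_card_of_injective ψ fun q q' hqq => ?_).trans ?_
  · rw [← QuotientGroup.out_eq' q, ← QuotientGroup.out_eq' q', QuotientGroup.eq, mem_subgroupOf,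
      mem_centralizer_iff]
    rintro _ ⟨t, ht, rfl⟩
    set y := q.out; set y' := q'.out
    have hext := hWext (cj y ⟨t, ht⟩) (cj y' ⟨t, ht⟩) 1 fun χ hχ => by
      rw [one_mul]
      exact congrFun (congrArg Subtype.val (congrFun hqq ⟨χ, hχ⟩)) ⟨t, ht⟩
    rw [one_smul] at hext
    have h3 : (y : X) * t ^ p ^ m * (y : X)⁻¹ = (y' : X) * t ^ p ^ m * (y' : X)⁻¹ := by
      rw [← conj_pow, ← conj_pow]; exact hinj hext
    simp only [Subgroup.coe_mul, Subgroup.coe_inv]
    calc t ^ p ^ m * ((y : X)⁻¹ * y') = (y : X)⁻¹ * ((y : X) * t ^ p ^ m * (y : X)⁻¹) * y' := by group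
      _ = _ := by rw [h3]; group
  · rw [Nat.card_fun, Nat.card_coe_set_eq]
    exact (Nat.pow_le_pow_left (hWn.trans n.le_succ) _).trans
      (Nat.pow_le_pow_right n.succ_pos (hWn.trans n.le_succ))

/-- The constant for the irreducible case. -/
def irrK (p m n B : ℕ) : ℕ :=
  (redBound p m B).factorial + p ^ m * (((redBound p m B).factorial * p ^ m) ^ 7) ^ n
    + (n + 1) ^ (n + 1) + n

/-- The recursion. -/
def jordanBound (p m : ℕ) : ℕ → ℕ
  | 0 => 1
  | n + 1 => redBound p m (jordanBound p m n) + jordanBound p m n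
      + countBound (irrK p m (n + 1) (jordanBound p m n))

theorem bdd (m : ℕ) : ∀ n, Bdd.{u} F p m n (jordanBound p m n) := by
  intro n
  induction n with
  | zero =>
    intro X _ _ V _ _ _ ρ hinj hrank _
    haveI : Subsingleton V := Module.finrank_zero_iff.1 (Nat.le_zero.1 hrank)
    haveI : Subsingleton X := hinj.subsingleton
    exact ⟨⊤, fun a _ b _ => Subsingleton.elim _ _, by rw [index_top]; exact le_rfl⟩
  | succ n ih =>
    intro X _ _ V _ _ _ ρ hinj hrank hX
    by_cases hlt : finrank F V ≤ n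
    · obtain ⟨A, hA, hAi⟩ := ih X V ρ hinj hlt hX
      exact ⟨A, hA, hAi.trans (le_trans (Nat.le_add_left _ _) (Nat.le_add_right _ _))⟩
    have hr : finrank F V = n + 1 := by omega
    haveI : Nontrivial V := Module.nontrivial_of_finrank_eq_succ hr
    by_cases hred : ∃ W : Submodule F V, (∀ g, W ≤ W.comap (ρ g)) ∧ W ≠ ⊥ ∧ W ≠ ⊤
    · obtain ⟨W, hW, h0, h1⟩ := hred
      obtain ⟨A, hA, hAi⟩ := exists_abelian_of_invariant ih ρ hinj hrank hX W hW h0 h1
      exact ⟨A, hA, hAi.trans (le_trans (Nat.le_add_right _ _) (Nat.le_add_right _ _))⟩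
    let Z : Subgroup X :=
      { carrier := {g | ∃ c : F, ρ g = c • (1 : End F V)}
        one_mem' := ⟨1, by rw [map_one, one_smul]⟩
        mul_mem' := fun {a b} ⟨c, hc⟩ ⟨c', hc'⟩ => ⟨c * c', by rw [map_mul, hc, hc', smul_mul_smul_comm, one_mul]⟩
        inv_mem' := fun {a} ⟨c, hc⟩ => by
          have hc0 : c ≠ 0 := by
            rintro rfl
            rw [zero_smul] at hc
            obtain ⟨v, hv⟩ := exists_ne (0 : V)
            exact hv ((ρ.apply_bijective a).1 (by rw [hc]; rfl))
          refine ⟨c⁻¹, ?_⟩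
          have h1 : ρ a⁻¹ * ρ a = 1 := by rw [← map_mul, inv_mul_cancel, map_one]
          rw [hc, mul_smul_comm, mul_one] at h1
          rw [← h1, smul_smul, inv_mul_cancel₀ hc0, one_smul] }
    set Bn := jordanBound p m n
    set E := (redBound p m Bn).factorial * p ^ m with hE
    set K := irrK p m (n + 1) Bn with hK
    have hE0 : 0 < E := Nat.mul_pos (Nat.factorial_pos _) (pow_pos hp.out.pos m)
    have hKker : p ^ m * ((E ^ 7)) ^ (n + 1) ≤ K := by
      rw [hK, irrK]; exact (Nat.le_add_left _ _).trans ((Nat.le_add_right _ _).trans (Nat.le_add_right _ _))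
    have ctx : Ctx Z E (p ^ m) K := by
      refine ⟨?_, Dvd.intro_left _ rfl, ?_, ?_, ?_, ?_, ?_⟩
      · rintro z ⟨c, hc⟩ g
        exact hinj (by rw [map_mul, map_mul, hc, smul_mul_assoc, one_mul, mul_smul_comm, mul_one])
      · intro x hx
        set C := centralizer ({x} : Set X)
        obtain ⟨μ, hμ⟩ := Module.End.exists_eigenvalue (ρ x)
        have hinv : ∀ g : C, (Module.End.eigenspace (ρ x) μ) ≤
            (Module.End.eigenspace (ρ x) μ).comap (ρ.comp C.subtype g) := by
          intro g v hv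
          rw [Submodule.mem_comap, Module.End.mem_eigenspace_iff] at *
          show ρ x (ρ (g : X) v) = μ • ρ (g : X) v
          rw [← Module.End.mul_apply, ← map_mul, ← mem_centralizer_singleton_iff.1 g.2, map_mul,
            Module.End.mul_apply, hv, map_smul]
        have htop : Module.End.eigenspace (ρ x) μ ≠ ⊤ := fun h => hx ⟨μ, LinearMap.ext fun v => by
          rw [Module.End.mem_eigenspace_iff.1 (h ▸ Submodule.mem_top : v ∈ Module.End.eigenspace (ρ x) μ)]
          rfl⟩
        obtain ⟨A, hA, hAi⟩ := exists_abelian_of_invariant ih (ρ.comp C.subtype)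
          (hinj.comp C.subtype_injective) hrank (factorization_le hX (card_subgroup_dvd_card C))
          _ hinv hμ htop
        obtain ⟨N, hNn, hN, hNi⟩ := exists_normal_abelian hA hAi
        refine ⟨N.map C.subtype, ?_, ?_, ?_, fun y hy => ?_⟩
        · rintro _ ⟨a, ha, rfl⟩ _ ⟨b, hb, rfl⟩
          exact (hN a ha b hb).map C.subtype
        · rintro _ ⟨a, -, rfl⟩
          exact mem_centralizer_singleton_iff.1 a.2
        · rw [relIndex, subgroupOf, comap_map_eq_self_of_injective C.subtype_injective, hK, irrK]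
          exact (Nat.le_of_dvd (Nat.factorial_pos _) hNi).trans
            ((Nat.le_add_right _ _).trans ((Nat.le_add_right _ _).trans (Nat.le_add_right _ _)))
        · have h1 : (⟨y, mem_centralizer_singleton_iff.2 hy⟩ : C) ^ E ∈ N := by
            obtain ⟨c, hc⟩ := hNi.trans (Dvd.intro (p ^ m) hE.symm)
            rw [hc, pow_mul]
            exact pow_mem (pow_index_mem (H := N) _) c
          exact ⟨_, h1, rfl⟩
      · intro A hA
        let A' : Subgroup X :=
          { carrier := {a | a ∈ A ∧ a ^ E ^ 4 = 1}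
            one_mem' := ⟨A.one_mem, one_pow _⟩
            mul_mem' := fun {a b} ha hb => ⟨A.mul_mem ha.1 hb.1, by
              rw [(hA a ha.1 b hb.1).mul_pow, ha.2, hb.2, one_mul]⟩
            inv_mem' := fun {a} ha => ⟨A.inv_mem ha.1, by rw [inv_pow, ha.2, inv_one]⟩ }
        have h1 := card_le_of_pow_eq_one ρ hinj hX hrank (pow_pos hE0 4) (A := A')
          (fun a ha b hb => hA a ha.1 b hb.1) (fun a ha => ha.2)
        refine le_trans ?_ ((h1.trans (Nat.mul_le_mul_left _ (Nat.pow_le_pow_left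
          (Nat.pow_le_pow_right hE0 (by norm_num)) _))).trans hKker)
        exact Nat.card_le_card_of_injective (fun a => (⟨a.1, a.1.2, a.2⟩ : A'))
          fun a b hab => Subtype.ext (Subtype.ext (congrArg (fun z : A' => (z : X)) hab))
      · intro A hA hAe
        exact (relIndex_le_of_pow_mem ρ hX hrank (Z := Z) (fun g => Iff.rfl) (pow_pos hE0 7) hA hAe).trans hKker
      · intro T hT N hN
        refine (relIndex_centralizer_le ρ hinj hX hrank hT hN).trans ?_
        rw [hK, irrK]
        exact (Nat.le_add_left _ _).trans (Nat.le_add_right _ _)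
      · intro x
        obtain ⟨R, hR, hRmem⟩ := roots_bound (F := F) (e := n + 1) n.succ_pos
        have key : ∀ z : {z : Z // ∃ y, y * x * y⁻¹ = (z : X) * x},
            ∃ c : R, ρ ((z.1 : Z) : X) = (c : F) • (1 : End F V) := by
          rintro ⟨⟨z, c, hc⟩, y, hy⟩
          refine ⟨⟨c, hRmem c ?_⟩, hc⟩
          have h1 := congrArg LinearMap.det (congrArg ρ hy)
          simp only [map_mul, hc, smul_mul_assoc, one_mul, LinearMap.det_smul, hr] at h1
          have hdet : LinearMap.det (ρ x) ≠ 0 := by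
            intro h0
            have h2 : LinearMap.det (ρ x⁻¹) * LinearMap.det (ρ x) = 1 := by
              rw [← map_mul, ← map_mul, inv_mul_cancel, map_one, map_one]
            rw [h0, mul_zero] at h2
            exact zero_ne_one h2
          have h3 : LinearMap.det (ρ y) * LinearMap.det (ρ y⁻¹) = 1 := by
            rw [← map_mul, ← map_mul, mul_inv_cancel, map_one, map_one]
          have h4 : c ^ (n + 1) * LinearMap.det (ρ x) = 1 * LinearMap.det (ρ x) := by
            rw [← h1, mul_right_comm, h3]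
          exact mul_right_cancel₀ hdet h4
        choose c hc using key
        refine le_trans (Nat.card_le_card_of_injective c fun z z' h => ?_) ?_
        · exact Subtype.ext (Subtype.ext (hinj ((hc z).trans (h ▸ (hc z').symm))))
        · rw [Nat.card_eq_fintype_card, Fintype.card_coe, hK, irrK]
          exact hR.trans (Nat.le_add_left _ _)
    obtain ⟨A, hA, hAi⟩ := ctx.exists_abelian
    exact ⟨A, hA, hAi.trans (Nat.le_add_left _ _)⟩

end linear

end Cfsg.Lib.Linear.BrauerFeit
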